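import Cfsg.Agent.H6.AFour.Two.OneClassOdd

/-!
# Two-point stabilisers of order two, one class of involutions: the Sylow 2-subgroup
-/

set_option autoImplicit false

namespace Cfsg.Agent.H6.AFour.Two

open MulAction
open Cfsg.Agent.H70

universe u v

variable {Y : Type u} [Group Y] [Finite Y] {Δ : Type v} [MulAction Y Δ] [Finite Δ]

theorem Hyp.sylow_of_oneClass (h : Hyp Y Δ) (h1 : ∀ y : Y, orderOf y = 2 → IsTau Δ y) {t : Y}
    (ht : IsTau Δ t) : ∃ (S : Subgroup Y) (i : ℕ), fixCard Δ t = 2 ^ i ∧ t ∈ S ∧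
      Nat.card ↥S = 2 * fixCard Δ t ∧ (∀ s ∈ S, s * s = 1) ∧
      Subgroup.centralizer ({t} : Set Y) ≤ Subgroup.normalizer (S : Set Y) ∧
      (∀ g ∈ Subgroup.centralizer (S : Set Y), g ∈ S) ∧
      Nat.card ↥(Subgroup.normalizer (S : Set Y)) =
        (2 * fixCard Δ t - 1) * (2 * fixCard Δ t * (fixCard Δ t - 1)) := by
  classical
  haveI : Fact (Nat.Prime 2) := ⟨Nat.prime_two⟩
  obtain ⟨p, S, hS⟩ := h.exists_block ht
  have hev := h.even_of_oneClass h1 ht
  obtain ⟨i, hi⟩ := hS.pow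
  have hp2 : p = 2 := by
    rw [hi, Nat.even_pow] at hev
    exact (hS.prime.eq_two_or_odd').resolve_right (Nat.not_odd_iff_even.2 hev.1)
  subst hp2
  set e := fixCard Δ t with he
  have he2 : 2 ≤ e := ht.2
  have htc : ∀ g ∈ S, Commute g t := fun g hg => Subgroup.mem_centralizer_singleton_iff.1 (hS.le hg)
  have htt := SameFix.sq_of_orderOf ht.1
  -- the block has exponent two
  have hsq : ∀ s ∈ S, s * s = 1 := by
    intro s hs
    obtain ⟨x, y, hxy, hx, hy⟩ := exists_two_fix ht.2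
    by_cases hsx : s • x = x
    · rcases hS.free s hs x hx hsx with rfl | rfl
      · exact one_mul 1
      · exact htt
    obtain ⟨r, hr, hrx, hrsx⟩ := h.exists_tau_swap (Ne.symm hsx)
    have hsy : t • s • x = s • x := smul_fix_of_commute (htc s hs) hx
    have hs2x : s • s • x = x := by
      rcases hS.exp s hs with e1 | e1 <;> rw [smul_smul, ← pow_two, e1]
      · exact one_smul Y x
      · exact hx
    have hrc : Commute r t := h.commute_of_map ht (Ne.symm hsx) hx hsy (by rw [hrx, hsy])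
      (by rw [hrsx, hx])
    have hss : s • s • s • x = s • x := congrArg (s • ·) hs2x
    rcases h.two_fix_one_or ht (Ne.symm hsx) hx hsy (g := r * s)
      (by rw [mul_smul, hrsx]) (by rw [mul_smul, hs2x, hrx]) with e1 | e1
    · rw [← inv_eq_iff_mul_eq_one, inv_eq_self hr.1] at e1
      rw [← e1, SameFix.sq_of_orderOf hr.1]
    · have e2 : s = r * t := by rw [← e1, ← mul_assoc, SameFix.sq_of_orderOf hr.1, one_mul]
      rw [e2, hrc.symm.mul_mul_mul_comm, SameFix.sq_of_orderOf hr.1, htt, one_mul]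
  have hcomm : ∀ a ∈ S, ∀ b ∈ S, a * b = b * a := fun a ha b hb => by
    rw [← inv_eq_of_mul_eq_one_right (hsq _ (mul_mem ha hb)), mul_inv_rev,
      inv_eq_of_mul_eq_one_right (hsq a ha), inv_eq_of_mul_eq_one_right (hsq b hb)]
  have hcent : ∀ g ∈ Subgroup.centralizer (S : Set Y), g ∈ S := by
    intro g hg
    obtain ⟨x, y, hxy, hx, hy⟩ := exists_two_fix ht.2
    have hgt : Commute g t := (Subgroup.mem_centralizer_iff.1 hg t hS.mem).symm
    obtain ⟨n, hn, hnx⟩ := hS.trans x (g • x) hx (smul_fix_of_commute hgt hx)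
    have hfix : ∀ z : Δ, t • z = z → (n⁻¹ * g) • z = z := by
      intro z hz
      obtain ⟨r, hr, rfl⟩ := hS.trans x z hx hz
      have hgr : r * g = g * r := Subgroup.mem_centralizer_iff.1 hg r hr
      rw [mul_smul, inv_smul_eq_iff, smul_smul, ← hgr, mul_smul, ← hnx, smul_smul, smul_smul,
        hcomm n hn r hr]
    rcases h.two_fix_one_or ht hxy hx hy (hfix x hx) (hfix y hy) with e' | e'
    · rw [inv_mul_eq_one] at e'; exact e' ▸ hn
    · rw [inv_mul_eq_iff_eq_mul] at e'; exact e' ▸ mul_mem hn hS.mem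
  refine ⟨S, i, hi, hS.mem, hS.card, hsq, hS.normal, hcent, ?_⟩
  -- the block is a Sylow subgroup
  have hf : Nat.card Δ = e * (2 * e - 1) := by
    rcases h.dichotomy ht with ⟨-, hf⟩ | ⟨-, huniq⟩
    · rw [Nat.mul_sub, mul_one, ← he] at *
      have : e * (2 * e) = 2 * e ^ 2 := by ring
      omega
    · obtain ⟨a, b, hab⟩ := h.nontriv
      obtain ⟨s, ⟨hs, -⟩, -⟩ := huniq a b hab
      exact absurd hs (h1 s hs.1).not_isSwap
  have hidx : S.index = (2 * e - 1) * (Nat.card Δ - 1) := by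
    have h3 := S.card_mul_index
    rw [hS.card, h.card_group, ← he] at h3
    refine Nat.eq_of_mul_eq_mul_left (show 0 < 2 * e by omega) (h3.trans ?_)
    rw [hf]; ring
  have hndvd : ¬ 2 ∣ S.index := by
    rw [hidx, Nat.prime_two.dvd_mul]
    rintro (hd | hd)
    · omega
    · have h4 : 2 ∣ Nat.card Δ := by rw [hf]; exact hev.two_dvd.mul_right _
      have : 0 < Nat.card Δ := by rw [hf]; exact Nat.mul_pos (by omega) (by omega)
      omega
  have hSp : IsPGroup 2 ↥S := IsPGroup.of_card (n := i + 1) (by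
    rw [hS.card, ← he, hi, pow_succ, mul_comm])
  let P : Sylow 2 Y := hSp.toSylow hndvd
  haveI : IsMulCommutative ↥(P : Subgroup Y) := ⟨⟨fun a b => Subtype.ext (hcomm a a.2 b b.2)⟩⟩
  set N := Subgroup.normalizer (S : Set Y) with hN
  have hC : Nat.card ↥(Subgroup.centralizer ({t} : Set Y)) = 2 * e * (e - 1) := h.card_centralizer ht
  let K := {u : Y | u ∈ S ∧ u ≠ 1}
  have hK : Nat.card ↥K = 2 * e - 1 := by
    have h5 : K = (S : Set Y) \ {1} := rfl
    rw [Nat.card_coe_set_eq, h5, Set.ncard_diff_singleton_of_mem (S.one_mem), ← Nat.card_coe_set_eq,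
      SetLike.coe_sort_coe, hS.card]
  let f : ↥N → ↥K := fun g => ⟨g * t * (g : Y)⁻¹,
    (Subgroup.mem_normalizer_iff.1 g.2 t).1 hS.mem, fun e1 => ht.ne_one (conj_eq_one_iff.1 e1)⟩
  have hfib : ∀ u : ↥K, Nat.card {g : ↥N // f g = u} = 2 * e * (e - 1) := by
    rintro ⟨u, huS, hu1⟩
    have hut : IsTau Δ u := h1 u (SameFix.orderOf_of_sq (hsq u huS) hu1)
    obtain ⟨g, hg⟩ := h.exists_conj_tau ht hut
    obtain ⟨g0, hg0, he0⟩ := P.conj_eq_normalizer_conj_of_mem t g⁻¹ hS.mem (by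
      show g⁻¹⁻¹ * t * g⁻¹ ∈ S
      rw [inv_inv, hg]; exact huS)
    have hg0' : g0⁻¹ ∈ N := inv_mem hg0
    have hu : g0⁻¹ * t * g0⁻¹⁻¹ = u := by
      rw [inv_inv, ← he0, inv_inv, hg]
    rw [← hC]
    refine Nat.card_congr
      { toFun := fun k => ⟨g0 * k.1, Subgroup.mem_centralizer_singleton_iff.2 ?_⟩
        invFun := fun c => ⟨⟨g0⁻¹ * c, mul_mem hg0' (hS.normal c.2)⟩, Subtype.ext ?_⟩
        left_inv := fun k => Subtype.ext (Subtype.ext (by simp))
        right_inv := fun c => Subtype.ext (by simp) }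
    · have := congrArg Subtype.val k.2
      change (k.1 : Y) * t * (k.1 : Y)⁻¹ = u at this
      calc g0 * (k.1 : Y) * t = g0 * ((k.1 : Y) * t * (k.1 : Y)⁻¹) * k.1 := by group
        _ = g0 * (g0⁻¹ * t * g0⁻¹⁻¹) * k.1 := by rw [this, hu]
        _ = t * (g0 * (k.1 : Y)) := by group
    · show g0⁻¹ * (c : Y) * t * (g0⁻¹ * (c : Y))⁻¹ = u
      rw [mul_assoc g0⁻¹ _ t,
        show (c : Y) * t = t * c from Subgroup.mem_centralizer_singleton_iff.1 c.2, ← hu]
      group
  haveI := Fintype.ofFinite ↥K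
  rw [← Nat.card_congr (Equiv.sigmaFiberEquiv f), Nat.card_sigma,
    Finset.sum_congr rfl (fun u _ => hfib u), Finset.sum_const, smul_eq_mul, Finset.card_univ,
    ← Nat.card_eq_fintype_card, hK]

end Cfsg.Agent.H6.AFour.Two
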