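import Cfsg.Agent.H6.AFour.Two.Defs
import Cfsg.Agent.H70.SameFix.Basic

/-!
# Two-point stabilisers of order two: involutions and counting
-/

set_option autoImplicit false

namespace Cfsg.Agent.H6.AFour.Two

open MulAction
open Cfsg.Agent.H70

universe u v

variable {Y : Type u} [Group Y] {Δ : Type v} [MulAction Y Δ]

/-- The number of fixed points is a conjugacy invariant. -/
theorem fixCard_conj (g y : Y) : fixCard Δ (g * y * g⁻¹) = fixCard Δ y := by
  have h : SameFix.fixNum Δ (g * y * g⁻¹) = SameFix.fixNum Δ y := SameFix.fixNum_conj g y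
  unfold fixCard
  rw [Nat.card_coe_set_eq, Nat.card_coe_set_eq]
  exact h

theorem orderOf_conj (g y : Y) : orderOf (g * y * g⁻¹) = orderOf y :=
  (MulAut.conj g).orderOf_eq y

theorem IsTau.conj {t : Y} (ht : IsTau Δ t) (g : Y) : IsTau Δ (g * t * g⁻¹) :=
  ⟨by rw [orderOf_conj]; exact ht.1, by rw [fixCard_conj]; exact ht.2⟩

theorem IsSwap.conj {t : Y} (ht : IsSwap Δ t) (g : Y) : IsSwap Δ (g * t * g⁻¹) :=
  ⟨by rw [orderOf_conj]; exact ht.1, by rw [fixCard_conj]; exact ht.2⟩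

theorem IsTau.not_isSwap {t : Y} (ht : IsTau Δ t) : ¬ IsSwap Δ t := fun h => by
  have := ht.2; have := h.2; omega

theorem isTau_or_isSwap {t : Y} (ht : orderOf t = 2) : IsTau Δ t ∨ IsSwap Δ t := by
  rcases Nat.lt_or_ge (fixCard Δ t) 2 with h | h
  · exact Or.inr ⟨ht, by omega⟩
  · exact Or.inl ⟨ht, h⟩

theorem smul_conj_eq {g t : Y} {x : Δ} (h : t • x = x) : (g * t * g⁻¹) • g • x = g • x := by
  rw [mul_smul, mul_smul, inv_smul_smul, h]

theorem conj_smul_apply (g t : Y) (x : Δ) : (g * t * g⁻¹) • g • x = g • t • x := by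
  rw [mul_smul, mul_smul, inv_smul_smul]

theorem inv_eq_self {s : Y} (h : orderOf s = 2) : s⁻¹ = s :=
  inv_eq_of_mul_eq_one_right (SameFix.sq_of_orderOf h)

theorem smul_fix_of_commute {s t : Y} (hc : Commute s t) {x : Δ} (hx : t • x = x) :
    t • s • x = s • x := by
  rw [smul_smul, ← hc.eq, mul_smul, hx]

variable [Finite Δ]

theorem two_le_fixCard {t : Y} {x y : Δ} (hxy : x ≠ y) (hx : t • x = x) (hy : t • y = y) :
    2 ≤ fixCard Δ t := by
  rw [fixCard, Nat.card_coe_set_eq]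
  exact (Set.one_lt_ncard (Set.toFinite _)).2 ⟨x, hx, y, hy, hxy⟩

theorem exists_two_fix {t : Y} (h : 2 ≤ fixCard Δ t) :
    ∃ x y : Δ, x ≠ y ∧ t • x = x ∧ t • y = y := by
  rw [fixCard, Nat.card_coe_set_eq] at h
  obtain ⟨x, hx, y, hy, hxy⟩ := (Set.one_lt_ncard (Set.toFinite _)).1 h
  exact ⟨x, y, hxy, hx, hy⟩

theorem IsSwap.eq_of_fix {s : Y} (hs : IsSwap Δ s) {x y : Δ} (hx : s • x = x) (hy : s • y = y) :
    x = y := by
  by_contra h
  have := two_le_fixCard h hx hy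
  have := hs.2
  omega

variable [Finite Y]

section

variable (h : Hyp Y Δ)

include h

omit [Finite Y] [Finite Δ] in
theorem Hyp.move {a b c d : Δ} (hab : a ≠ b) (hcd : c ≠ d) : ∃ g : Y, g • a = c ∧ g • b = d :=
  is_two_pretransitive_iff.1 h.two hab hcd

omit [Finite Y] [Finite Δ] in
/-- The involution fixing two given points. -/
theorem Hyp.pair {x y : Δ} (hxy : x ≠ y) :
    ∃ t : Y, orderOf t = 2 ∧ t • x = x ∧ t • y = y ∧
      ∀ g : Y, g • x = x → g • y = y → g = 1 ∨ g = t := by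
  obtain ⟨t, ht1, huniq⟩ := (Nat.card_eq_two_iff' (1 : ↥(stabilizer Y x ⊓ stabilizer Y y))).1
    (h.stab_two x y hxy)
  have ht : (t : Y) • x = x ∧ (t : Y) • y = y := ⟨t.2.1, t.2.2⟩
  have ht1' : (t : Y) ≠ 1 := fun e => ht1 (Subtype.ext e)
  refine ⟨t, ?_, ht.1, ht.2, fun g hgx hgy => ?_⟩
  · refine SameFix.orderOf_of_sq ?_ ht1'
    by_contra hsq
    have hmem : (t : Y) * t ∈ stabilizer Y x ⊓ stabilizer Y y := mul_mem t.2 t.2
    have := congrArg Subtype.val (huniq ⟨_, hmem⟩ fun e => hsq (congrArg Subtype.val e))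
    exact ht1' (mul_eq_right.1 this)
  · by_cases hg : g = 1
    · exact Or.inl hg
    · exact Or.inr (congrArg Subtype.val
        (huniq ⟨g, hgx, hgy⟩ fun e => hg (congrArg Subtype.val e)))

omit [Finite Y] in
theorem Hyp.exists_tau_fix {x y : Δ} (hxy : x ≠ y) :
    ∃ t : Y, IsTau Δ t ∧ t • x = x ∧ t • y = y := by
  obtain ⟨t, ht, hx, hy, -⟩ := h.pair hxy
  exact ⟨t, ⟨ht, two_le_fixCard hxy hx hy⟩, hx, hy⟩

omit [Finite Y] in
theorem Hyp.exists_tau : ∃ t : Y, IsTau Δ t := by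
  obtain ⟨x, y, hxy⟩ := h.nontriv
  obtain ⟨t, ht, -, -⟩ := h.exists_tau_fix hxy
  exact ⟨t, ht⟩

omit [Finite Y] [Finite Δ] in
theorem Hyp.eq_tau {g t : Y} {x y : Δ} (hxy : x ≠ y) (hg : g ≠ 1) (hgx : g • x = x)
    (hgy : g • y = y) (ht : t ≠ 1) (htx : t • x = x) (hty : t • y = y) : g = t := by
  obtain ⟨u, -, -, -, hu⟩ := h.pair hxy
  rcases hu g hgx hgy with h1 | h1
  · exact absurd h1 hg
  rcases hu t htx hty with h2 | h2
  · exact absurd h2 ht
  rw [h1, h2]

omit [Finite Y] in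
theorem Hyp.tau_unique {t t' : Y} (ht : IsTau Δ t) (ht' : IsTau Δ t') {x y : Δ} (hxy : x ≠ y)
    (hx : t • x = x) (hy : t • y = y) (hx' : t' • x = x) (hy' : t' • y = y) : t = t' :=
  h.eq_tau hxy (fun e => by simp [e] at ht; exact absurd ht.1 (by simp)) hx hy
    (fun e => by simp [e] at ht'; exact absurd ht'.1 (by simp)) hx' hy'

omit [Finite Y] [Finite Δ] in
theorem Hyp.two_fix_one_or {t g : Y} (ht : IsTau Δ t) {x y : Δ} (hxy : x ≠ y) (hx : t • x = x)
    (hy : t • y = y) (hgx : g • x = x) (hgy : g • y = y) : g = 1 ∨ g = t := by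
  by_cases hg : g = 1
  · exact Or.inl hg
  · exact Or.inr (h.eq_tau hxy hg hgx hgy (fun e => by have := ht.1; simp [e] at this) hx hy)

omit [Finite Y] in
theorem Hyp.exists_conj_tau {t t' : Y} (ht : IsTau Δ t) (ht' : IsTau Δ t') :
    ∃ g : Y, g * t * g⁻¹ = t' := by
  obtain ⟨x, y, hxy, hx, hy⟩ := exists_two_fix ht.2
  obtain ⟨x', y', hxy', hx', hy'⟩ := exists_two_fix ht'.2
  obtain ⟨g, rfl, rfl⟩ := h.move hxy hxy'
  exact ⟨g, h.tau_unique (ht.conj g) ht' hxy' (smul_conj_eq hx) (smul_conj_eq hy) hx' hy'⟩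

omit [Finite Y] in
theorem Hyp.conj_tau {t t' : Y} (ht : IsTau Δ t) (ht' : IsTau Δ t') : IsConj t t' :=
  isConj_iff.2 (h.exists_conj_tau ht ht')

omit [Finite Y] in
theorem Hyp.fixCard_eq {t t' : Y} (ht : IsTau Δ t) (ht' : IsTau Δ t') :
    fixCard Δ t' = fixCard Δ t := by
  obtain ⟨g, rfl⟩ := h.exists_conj_tau ht ht'
  exact fixCard_conj g t

theorem Hyp.card_group : Nat.card Y = Nat.card Δ * (Nat.card Δ - 1) * 2 := by
  obtain ⟨x, y, hxy⟩ := h.nontriv
  rw [SameFix.card_two_pt (fun a b c d hab hcd => h.move hab hcd) hxy, h.stab_two x y hxy]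

omit [Finite Y] in
/-- An element moving the fixed points of a tau onto its fixed points centralises it. -/
theorem Hyp.commute_of_map {t g : Y} (ht : IsTau Δ t) {x y : Δ} (hxy : x ≠ y) (hx : t • x = x)
    (hy : t • y = y) (hgx : t • g • x = g • x) (hgy : t • g • y = g • y) : Commute g t := by
  have := h.tau_unique (ht.conj g) ht (fun e => hxy (MulAction.injective g e))
    (smul_conj_eq hx) (smul_conj_eq hy) hgx hgy
  exact mul_inv_eq_iff_eq_mul.1 this

theorem Hyp.card_centralizer {t : Y} (ht : IsTau Δ t) :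
    Nat.card ↥(Subgroup.centralizer ({t} : Set Y)) = 2 * fixCard Δ t * (fixCard Δ t - 1) := by
  classical
  have := Fintype.ofFinite Δ
  set C := Subgroup.centralizer ({t} : Set Y) with hC
  obtain ⟨x, y, hxy, hx, hy⟩ := exists_two_fix ht.2
  have hmemC : ∀ g : Y, g ∈ C ↔ Commute g t := fun g => by
    rw [hC, Subgroup.mem_centralizer_singleton_iff]; rfl
  set F := Finset.univ.filter (fun z : Δ => t • z = z) with hF
  have horb : orbit ↥C (x, y) = ↑F.offDiag := by
    ext ⟨c, d⟩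
    simp only [Finset.mem_coe, Finset.mem_offDiag, hF, Finset.mem_filter, Finset.mem_univ,
      true_and]
    constructor
    · rintro ⟨⟨g, hg⟩, hgp⟩
      simp only [Prod.smul_mk, Prod.mk.injEq, Subgroup.mk_smul] at hgp
      rw [← hgp.1, ← hgp.2]
      exact ⟨smul_fix_of_commute ((hmemC g).1 hg) hx, smul_fix_of_commute ((hmemC g).1 hg) hy,
        fun e => hxy (MulAction.injective g e)⟩
    · rintro ⟨hc, hd, hcd⟩
      obtain ⟨g, rfl, rfl⟩ := h.move hxy hcd
      exact ⟨⟨g, (hmemC g).2 (h.commute_of_map ht hxy hx hy hc hd)⟩, rfl⟩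
  have hst : Nat.card ↥(stabilizer ↥C (x, y)) = 2 := by
    have ht1 : t ≠ 1 := fun e => by have := ht.1; simp [e] at this
    rw [Nat.card_eq_two_iff' (1 : ↥(stabilizer ↥C (x, y)))]
    refine ⟨⟨⟨t, (hmemC t).2 (Commute.refl t)⟩, ?_⟩, ?_, ?_⟩
    · show (_ : Y) • (x, y) = (x, y)
      simp [hx, hy]
    · exact fun e => ht1 (congrArg Subtype.val (congrArg Subtype.val e))
    · rintro ⟨⟨g, hg⟩, hgs⟩ hne
      simp only [mem_stabilizer_iff, Prod.smul_mk, Prod.mk.injEq, Subgroup.mk_smul] at hgs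
      rcases h.two_fix_one_or ht hxy hx hy hgs.1 hgs.2 with rfl | rfl
      · exact absurd rfl hne
      · rfl
  have he : fixCard Δ t = F.card := by
    rw [fixCard, ← Nat.card_eq_finsetCard]
    exact Nat.card_congr (Equiv.subtypeEquivRight fun z => by simp [hF, fixedBy])
  rw [← Subgroup.card_mul_index (stabilizer ↥C (x, y)), index_stabilizer, horb, hst,
    Set.ncard_coe_finset, Finset.offDiag_card, he, mul_assoc, Nat.mul_sub_one]

end

end Cfsg.Agent.H6.AFour.Two
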