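import Cfsg.Agent.H6.AFour.Two.RegularEven
import Cfsg.Agent.H70.SameFix.Main

/-!
# Two-point stabilisers of order two: the regular normal subgroup of a tau centraliser
-/

set_option autoImplicit false

namespace Cfsg.Agent.H6.AFour.Two

open MulAction
open Cfsg.Agent.H70

universe u v

variable {Y : Type u} [Group Y] {Δ : Type v} [MulAction Y Δ] [Finite Y] [Finite Δ]

/-- The preimage in the centraliser of a tau `t` of the regular normal subgroup of its sharply doubly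
transitive action on the fixed points. -/
structure Block (Y Δ : Type*) [Group Y] [MulAction Y Δ] (t : Y) (p : ℕ) (S : Subgroup Y) : Prop where
  prime : p.Prime
  pow : ∃ i : ℕ, fixCard Δ t = p ^ i
  mem : t ∈ S
  le : S ≤ Subgroup.centralizer ({t} : Set Y)
  normal : Subgroup.centralizer ({t} : Set Y) ≤ Subgroup.normalizer (S : Set Y)
  card : Nat.card ↥S = 2 * fixCard Δ t
  trans : ∀ a b : Δ, t • a = a → t • b = b → ∃ y ∈ S, y • a = b
  free : ∀ y ∈ S, ∀ a : Δ, t • a = a → y • a = a → y = 1 ∨ y = t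
  exp : ∀ y ∈ S, y ^ p = 1 ∨ y ^ p = t
  comm : ∀ y ∈ S, ∀ z ∈ S, y * z * y⁻¹ * z⁻¹ = 1 ∨ y * z * y⁻¹ * z⁻¹ = t

theorem Hyp.exists_block (h : Hyp Y Δ) {t : Y} (ht : IsTau Δ t) :
    ∃ (p : ℕ) (S : Subgroup Y), Block Y Δ t p S := by
  classical
  haveI := h.faithful
  obtain ⟨x, y, hxy, hx, hy⟩ := exists_two_fix ht.2
  set C := Subgroup.centralizer ({t} : Set Y) with hC
  have hmemC : ∀ g : Y, g ∈ C ↔ Commute g t := fun g => by
    rw [hC, Subgroup.mem_centralizer_singleton_iff]; rfl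
  let F : SubMulAction ↥C Δ :=
    { carrier := fixedBy Δ t
      smul_mem' := fun g z hz => smul_fix_of_commute ((hmemC g).1 g.2) hz }
  have hF : ∀ z : Δ, z ∈ F ↔ t • z = z := fun z => Iff.rfl
  let φ : ↥C →* Equiv.Perm ↥F := toPermHom ↥C ↥F
  have hφ : ∀ (g : ↥C) (z : ↥F), ((φ g z : ↥F) : Δ) = (g : Y) • (z : Δ) := fun g z => rfl
  let L := φ.range
  have h2 : IsMultiplyPretransitive ↥L ↥F 2 := is_two_pretransitive_iff.2 fun {a b c d} hab hcd => by
    obtain ⟨g, hga, hgb⟩ := h.move (fun e => hab (Subtype.ext e)) (fun e => hcd (Subtype.ext e))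
    have hg : g ∈ C := (hmemC g).2 (h.commute_of_map ht (fun e => hab (Subtype.ext e))
      ((hF _).1 a.2) ((hF _).1 b.2) (by rw [hga]; exact (hF _).1 c.2) (by rw [hgb]; exact (hF _).1 d.2))
    exact ⟨⟨φ ⟨g, hg⟩, _, rfl⟩, Subtype.ext hga, Subtype.ext hgb⟩
  have hcardF : Nat.card ↥F = fixCard Δ t := rfl
  have hsharp : ∀ a b : ↥F, a ≠ b → ∀ g : ↥L, g • a = a → g • b = b → g = 1 := by
    rintro a b hab ⟨_, g, rfl⟩ hga hgb
    refine Subtype.ext ?_
    show φ g = 1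
    rcases h.two_fix_one_or ht (fun e => hab (Subtype.ext e)) ((hF _).1 a.2) ((hF _).1 b.2)
      (congrArg Subtype.val hga) (congrArg Subtype.val hgb) with e | e
    · rw [show g = 1 from Subtype.ext e, map_one]
    · refine Equiv.ext fun z => Subtype.ext ?_
      rw [hφ, e]
      exact (hF _).1 z.2
  obtain ⟨R, hRn, hRtr, hRfree⟩ :=
    SameFix.hasRegularNormal_of_sharp h2 (hcardF ▸ ht.2) hsharp
  have hfree' : ∀ a : ↥F, stabilizer ↥R a = ⊥ :=
    Perm.free_iff.2 fun r hr a ha => hRfree a r hr ha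
  haveI : Nonempty ↥F := ⟨⟨x, hx⟩⟩
  obtain ⟨hRab, p, hp, hexp⟩ := Perm.regular_normal_elementary h2 R hfree'
  obtain ⟨i, hi⟩ := Perm.card_prime_pow_of_exp hp hexp
  have hRcard : Nat.card ↥R = fixCard Δ t := by
    rw [← hcardF]
    refine Nat.card_congr (Equiv.ofBijective (fun r : ↥R => (r : ↥L) • (⟨x, hx⟩ : ↥F)) ⟨?_, ?_⟩)
    · intro r r' e
      exact Subtype.ext (Perm.eq_of_smul_eq_of_free hfree' r.2 r'.2 _ e)
    · intro z
      obtain ⟨r, hr, e⟩ := hRtr ⟨x, hx⟩ z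
      exact ⟨⟨r, hr⟩, e⟩
  let S := (R.comap φ.rangeRestrict).map C.subtype
  have hS : ∀ g : ↥C, (g : Y) ∈ S ↔ φ.rangeRestrict g ∈ R := fun g => by
    rw [← Subgroup.mem_comap]
    exact Subgroup.mem_map_iff_mem (f := C.subtype) C.subtype_injective
  have hSC : S ≤ C := Subgroup.map_subtype_le _
  have htriv : ∀ g : ↥C, φ.rangeRestrict g = 1 → (g : Y) = 1 ∨ (g : Y) = t := by
    intro g hg
    have hg' : φ g = 1 := congrArg Subtype.val hg
    refine h.two_fix_one_or ht hxy hx hy ?_ ?_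
    · exact congrArg Subtype.val (Equiv.ext_iff.1 hg' ⟨x, hx⟩)
    · exact congrArg Subtype.val (Equiv.ext_iff.1 hg' ⟨y, hy⟩)
  have htmem : t ∈ S := by
    refine (hS ⟨t, (hmemC t).2 (Commute.refl t)⟩).2 ?_
    convert R.one_mem
    refine Subtype.ext (Equiv.ext fun z => Subtype.ext ?_)
    exact (hF _).1 z.2
  have htrans : ∀ a b : Δ, t • a = a → t • b = b → ∃ g ∈ S, g • a = b := by
    intro a b ha hb
    obtain ⟨r, hr, e⟩ := hRtr ⟨a, ha⟩ ⟨b, hb⟩
    obtain ⟨g, hg⟩ := φ.rangeRestrict_surjective r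
    exact ⟨g, (hS g).2 (hg ▸ hr), congrArg Subtype.val (hg ▸ e : φ.rangeRestrict g • (⟨a, ha⟩ : ↥F) = ⟨b, hb⟩)⟩
  have hfreeS : ∀ g ∈ S, ∀ a : Δ, t • a = a → g • a = a → g = 1 ∨ g = t := by
    intro g hg a ha hga
    exact htriv ⟨g, hSC hg⟩ (hRfree ⟨a, ha⟩ _ ((hS ⟨g, hSC hg⟩).1 hg) (Subtype.ext hga))
  refine ⟨p, S, hp, ⟨i, hRcard ▸ hi⟩, htmem, hSC, ?_, ?_, htrans, hfreeS, ?_, ?_⟩
  · intro g hg
    have key : ∀ g ∈ C, ∀ n ∈ S, g * n * g⁻¹ ∈ S := by
      intro g hg n hn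
      refine (hS ⟨_, mul_mem (mul_mem hg (hSC hn)) (inv_mem hg)⟩).2 ?_
      have := hRn.conj_mem _ ((hS ⟨n, hSC hn⟩).1 hn) (φ.rangeRestrict ⟨g, hg⟩)
      rwa [← map_inv, ← map_mul, ← map_mul] at this
    rw [Subgroup.mem_normalizer_iff]
    refine fun n => ⟨fun hn => key g hg n hn, fun hn => ?_⟩
    have := key g⁻¹ (inv_mem hg) _ hn
    simpa [mul_assoc] using this
  · have horb : orbit ↥S x = fixedBy Δ t := by
      ext z
      constructor
      · rintro ⟨g, rfl⟩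
        exact smul_fix_of_commute ((hmemC g).1 (hSC g.2)) hx
      · intro hz
        obtain ⟨g, hg, e⟩ := htrans x z hx hz
        exact ⟨⟨g, hg⟩, e⟩
    have hst : Nat.card ↥(stabilizer ↥S x) = 2 := by
      rw [Nat.card_eq_two_iff' (1 : ↥(stabilizer ↥S x))]
      refine ⟨⟨⟨t, htmem⟩, hx⟩, fun e => ht.ne_one (congrArg Subtype.val (congrArg Subtype.val e)), ?_⟩
      rintro ⟨⟨g, hg⟩, hgx⟩ hne
      rcases hfreeS g hg x hx hgx with rfl | rfl
      · exact absurd rfl hne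
      · rfl
    rw [← Subgroup.card_mul_index (stabilizer ↥S x), index_stabilizer, horb, hst, fixCard,
      Nat.card_coe_set_eq]
  · intro g hg
    have h1 : φ.rangeRestrict (⟨g, hSC hg⟩ ^ p) = 1 := by
      rw [map_pow]; exact hexp _ ((hS ⟨g, hSC hg⟩).1 hg)
    simpa using htriv _ h1
  · intro g hg k hk
    have h1 : φ.rangeRestrict (⟨g, hSC hg⟩ * ⟨k, hSC hk⟩ * ⟨g, hSC hg⟩⁻¹ * ⟨k, hSC hk⟩⁻¹) = 1 := by
      rw [map_mul, map_mul, map_mul, map_inv, map_inv,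
        Perm.isMulCommutative_iff_comm.1 hRab _ ((hS ⟨g, hSC hg⟩).1 hg) _ ((hS ⟨k, hSC hk⟩).1 hk)]
      group
    simpa using htriv _ h1

end Cfsg.Agent.H6.AFour.Two
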