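import Cfsg.Agent.H6.AFour.Two.Basic

/-!
# Two-point stabilisers of order two: swappers of a pair, counting, the dichotomy
-/

set_option autoImplicit false

namespace Cfsg.Agent.H6.AFour.Two

open MulAction
open Cfsg.Agent.H70

universe u v

variable {Y : Type u} [Group Y] {Δ : Type v} [MulAction Y Δ]

theorem eq_one_of_forall [FaithfulSMul Y Δ] {g : Y} (hg : ∀ z : Δ, g • z = z) : g = 1 :=
  eq_of_smul_eq_smul fun z : Δ => by rw [hg z, one_smul]

theorem IsTau.ne_one {t : Y} (ht : IsTau Δ t) : t ≠ 1 := fun e => by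
  have := ht.1
  simp [e] at this

theorem IsSwap.ne_one {t : Y} (ht : IsSwap Δ t) : t ≠ 1 := fun e => by
  have := ht.1
  simp [e] at this

variable [Finite Y] [Finite Δ]

/-- Double counting for a finite relation with constant fibres on both sides. -/
theorem card_mul_eq_of_rel {α β : Type*} (A : Finset α) (B : Finset β) (r : α → β → Prop)
    [∀ a b, Decidable (r a b)] {c d : ℕ} (hA : ∀ a ∈ A, (B.filter (r a)).card = c)
    (hB : ∀ b ∈ B, (A.filter (r · b)).card = d) : A.card * c = B.card * d := by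
  have := Finset.sum_card_bipartiteAbove_eq_sum_card_bipartiteBelow r (s := A) (t := B)
  simp only [Finset.bipartiteAbove, Finset.bipartiteBelow] at this
  rw [Finset.sum_congr rfl hA, Finset.sum_congr rfl hB] at this
  simpa using this

section

variable (h : Hyp Y Δ)

include h

omit [Finite Y] in
theorem Hyp.exists_moved {g : Y} (hg : g ≠ 1) : ∃ z : Δ, g • z ≠ z := by
  by_contra hcon
  push Not at hcon
  haveI := h.faithful
  exact hg (eq_one_of_forall hcon)

omit [Finite Y] in
/-- Every pair is interchanged by an involution with at least two fixed points. -/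
theorem Hyp.exists_tau_swap {x y : Δ} (hxy : x ≠ y) :
    ∃ t : Y, IsTau Δ t ∧ t • x = y ∧ t • y = x := by
  obtain ⟨t, ht⟩ := h.exists_tau
  obtain ⟨z, hz⟩ := h.exists_moved ht.ne_one
  obtain ⟨g, hgx, hgy⟩ := h.move (Ne.symm hz) hxy
  refine ⟨g * t * g⁻¹, ht.conj g, ?_, ?_⟩
  · rw [← hgx, conj_smul_apply, hgy]
  · rw [← hgy, conj_smul_apply, SameFix.smul_smul_self (SameFix.sq_of_orderOf ht.1), hgx]

omit [Finite Y] in
/-- The involutions interchanging two given points are two in number. -/
theorem Hyp.swappers {x y : Δ} (hxy : x ≠ y) :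
    ∃ s s' : Y, s ≠ s' ∧ orderOf s = 2 ∧ orderOf s' = 2 ∧ IsTau Δ s ∧
      s • x = y ∧ s' • x = y ∧ ∀ u : Y, orderOf u = 2 → u • x = y → u = s ∨ u = s' := by
  obtain ⟨s, hs, hsx, hsy⟩ := h.exists_tau_swap hxy
  obtain ⟨t, ht, htx, hty, huniq⟩ := h.pair hxy
  have ht1 : t ≠ 1 := fun e => by simp [e] at ht
  have hss := SameFix.sq_of_orderOf hs.1
  have hcomm : Commute s t := by
    refine mul_inv_eq_iff_eq_mul.1 (h.eq_tau hxy ?_ ?_ ?_ ht1 htx hty)
    · exact fun e => ht1 (by rwa [conj_eq_one_iff] at e)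
    · conv_lhs => rw [← hsy]
      rw [conj_smul_apply, hty, hsy]
    · conv_lhs => rw [← hsx]
      rw [conj_smul_apply, htx, hsx]
  refine ⟨s, s * t, fun e => ht1 (left_eq_mul.1 e), hs.1, ?_, hs, hsx,
    by rw [mul_smul, htx, hsx], fun u hu hux => ?_⟩
  · refine SameFix.orderOf_of_sq ?_ fun e => ?_
    · rw [hcomm.symm.mul_mul_mul_comm, hss, SameFix.sq_of_orderOf ht, one_mul]
    · rw [← inv_eq_iff_mul_eq_one, inv_eq_self hs.1] at e
      exact hxy (by rw [← hsx, e, htx])
  · have huy : u • y = x := by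
      rw [← hux, SameFix.smul_smul_self (SameFix.sq_of_orderOf hu)]
    rcases huniq (s * u) (by rw [mul_smul, hux, hsy]) (by rw [mul_smul, huy, hsx]) with e | e
    · left
      rw [← inv_eq_iff_mul_eq_one, inv_eq_self hs.1] at e
      exact e.symm
    · right
      rw [← e, ← mul_assoc, hss, one_mul]

theorem Hyp.card_taus_mul {t : Y} (ht : IsTau Δ t) [DecidableEq Δ] [Fintype Y] [Fintype Δ]
    [DecidablePred (IsTau Δ (Y := Y))] :
    (Finset.univ.filter (IsTau Δ (Y := Y))).card * (fixCard Δ t * (fixCard Δ t - 1)) =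
      Nat.card Δ * (Nat.card Δ - 1) := by
  classical
  have := card_mul_eq_of_rel (Finset.univ.filter (IsTau Δ (Y := Y)))
    (Finset.univ : Finset Δ).offDiag (fun u p => u • p.1 = p.1 ∧ u • p.2 = p.2)
    (c := fixCard Δ t * (fixCard Δ t - 1)) (d := 1) ?_ ?_
  · rw [this, Finset.offDiag_card, Finset.card_univ, Nat.card_eq_fintype_card, Nat.mul_sub_one,
      mul_one]
  · intro u hu
    rw [Finset.mem_filter] at hu
    rw [← h.fixCard_eq ht hu.2]
    have e : fixCard Δ u = (Finset.univ.filter fun z : Δ => u • z = z).card := by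
      rw [fixCard, ← Nat.card_eq_finsetCard]
      exact Nat.card_congr (Equiv.subtypeEquivRight fun z => by simp [fixedBy])
    rw [e, Nat.mul_sub_one, ← Finset.offDiag_card]
    congr 1
    ext ⟨a, b⟩
    simp only [Finset.mem_filter, Finset.mem_offDiag, Finset.mem_univ, true_and]
    tauto
  · rintro ⟨a, b⟩ hab
    simp only [Finset.mem_offDiag, Finset.mem_univ, true_and] at hab
    obtain ⟨u, hu, hua, hub⟩ := h.exists_tau_fix hab
    refine Finset.card_eq_one.2 ⟨u, Finset.ext fun w => ?_⟩
    simp only [Finset.mem_filter, Finset.mem_univ, true_and, Finset.mem_singleton]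
    exact ⟨fun hw => h.tau_unique hw.1 hu hab hw.2.1 hw.2.2 hua hub,
      fun hw => hw ▸ ⟨hu, hua, hub⟩⟩

omit [Finite Y] in
theorem card_swappers_conj [Fintype Y] (P : Y → Prop) [DecidablePred P]
    [DecidableEq Δ]
    (hP : ∀ g y, P y → P (g * y * g⁻¹)) {a b c d : Δ} (hab : a ≠ b) (hcd : c ≠ d) :
    ((Finset.univ.filter P).filter fun u => u • a = b).card =
      ((Finset.univ.filter P).filter fun u => u • c = d).card := by
  obtain ⟨g, rfl, rfl⟩ := h.move hab hcd
  refine Finset.card_bij' (fun u _ => g * u * g⁻¹) (fun u _ => g⁻¹ * u * g) ?_ ?_ ?_ ?_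
  · intro u hu
    simp only [Finset.mem_filter, Finset.mem_univ, true_and] at hu ⊢
    exact ⟨hP g u hu.1, by rw [conj_smul_apply, hu.2]⟩
  · intro u hu
    simp only [Finset.mem_filter, Finset.mem_univ, true_and] at hu ⊢
    refine ⟨by simpa using hP g⁻¹ u hu.1, ?_⟩
    rw [mul_smul, mul_smul, hu.2, inv_smul_smul]
  · intro u _; group
  · intro u _; group

/-- Either all involutions have at least two fixed points and every pair is interchanged by two of
them, or every pair is interchanged by exactly one involution with at most one fixed point. -/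
theorem Hyp.dichotomy {t : Y} (ht : IsTau Δ t) :
    ((∀ y : Y, orderOf y = 2 → IsTau Δ y) ∧ Nat.card Δ + fixCard Δ t = 2 * fixCard Δ t ^ 2) ∨
    (Nat.card Δ = fixCard Δ t ^ 2 ∧ ∀ x y : Δ, x ≠ y → ∃! s : Y, IsSwap Δ s ∧ s • x = y) := by
  classical
  have := Fintype.ofFinite Δ
  have := Fintype.ofFinite Y
  obtain ⟨a, b, hab⟩ := h.nontriv
  set T := Finset.univ.filter (IsTau Δ (Y := Y)) with hT
  set e := fixCard Δ t with he
  set k := (T.filter fun u => u • a = b).card with hk
  have he2 : 2 ≤ e := ht.2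
  have hfix : ∀ u : Y, (Finset.univ.filter fun z : Δ => u • z = z).card = fixCard Δ u := fun u => by
    rw [fixCard, ← Nat.card_eq_finsetCard]
    exact Nat.card_congr (Equiv.subtypeEquivRight fun z => by simp [fixedBy])
  have hmoved : ∀ u : Y, (Finset.univ.filter fun z : Δ => ¬ u • z = z).card + fixCard Δ u =
      Nat.card Δ := fun u => by
    rw [← hfix u, add_comm, Finset.card_filter_add_card_filter_not, Finset.card_univ,
      Nat.card_eq_fintype_card]
  have hef : e ≤ Nat.card Δ := by have := hmoved t; omega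
  have h1 : T.card * (e * (e - 1)) = Nat.card Δ * (Nat.card Δ - 1) := h.card_taus_mul ht
  have h2 : T.card * (Nat.card Δ - e) = Nat.card Δ * (Nat.card Δ - 1) * k := by
    have := card_mul_eq_of_rel T (Finset.univ : Finset Δ).offDiag (fun u p => u • p.1 = p.2)
      (c := Nat.card Δ - e) (d := k) ?_ ?_
    · rw [this, Finset.offDiag_card, Finset.card_univ, ← Nat.card_eq_fintype_card,
        Nat.mul_sub_one]
    · intro u hu
      have hu' : IsTau Δ u := (Finset.mem_filter.1 hu).2
      have hcard := hmoved u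
      rw [h.fixCard_eq ht hu', ← he] at hcard
      rw [show Nat.card Δ - e = (Finset.univ.filter fun z : Δ => ¬ u • z = z).card by omega]
      refine Finset.card_bij' (fun p _ => p.1) (fun z _ => (z, u • z)) ?_ ?_ ?_ ?_
      · rintro ⟨p, q⟩ hp
        simp only [Finset.mem_filter, Finset.mem_offDiag, Finset.mem_univ, true_and] at hp ⊢
        rw [hp.2]; exact Ne.symm hp.1
      · intro z hz
        simp only [Finset.mem_filter, Finset.mem_offDiag, Finset.mem_univ, true_and] at hz ⊢
        exact ⟨Ne.symm hz, trivial⟩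
      · rintro ⟨p, q⟩ hp
        simp only [Finset.mem_filter] at hp
        simp [hp.2]
      · intro z _; rfl
    · rintro ⟨c, d⟩ hcd
      simp only [Finset.mem_offDiag, Finset.mem_univ, true_and] at hcd
      exact card_swappers_conj h (IsTau Δ) (fun g y hy => hy.conj g) hcd hab
  have hTpos : 0 < T.card := Finset.card_pos.2 ⟨t, by simp [hT, ht]⟩
  have h3 : Nat.card Δ - e = k * (e * (e - 1)) := by
    refine Nat.eq_of_mul_eq_mul_left hTpos ?_
    rw [h2, ← h1]; ring
  obtain ⟨s, s', hne, -, hs'2, hsT, hsa, hs'a, hsall⟩ := h.swappers hab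
  have hsub : T.filter (fun u => u • a = b) ⊆ {s, s'} := by
    intro u hu
    simp only [hT, Finset.mem_filter, Finset.mem_univ, true_and] at hu
    simpa using hsall u hu.1.1 hu.2
  have hsmem : s ∈ T.filter fun u => u • a = b := by simp [hT, hsT, hsa]
  by_cases hs' : IsTau Δ s'
  · left
    have hk2 : k = 2 := by
      refine le_antisymm ((Finset.card_le_card hsub).trans Finset.card_le_two) ?_
      refine le_trans (Finset.card_pair hne).ge (Finset.card_le_card ?_)
      simp [Finset.insert_subset_iff, hT, hsT, hsa, hs', hs'a]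
    refine ⟨fun y hy => ?_, ?_⟩
    · obtain ⟨z, hz⟩ := h.exists_moved (g := y) (fun e => by simp [e] at hy)
      obtain ⟨g, hga, hgb⟩ := h.move hab (Ne.symm hz)
      have hzg : (g⁻¹ * y * g) • a = b := by
        rw [mul_smul, mul_smul, hga, ← hgb, inv_smul_smul]
      have ho : orderOf (g⁻¹ * y * g) = 2 := by
        simpa using (orderOf_conj g⁻¹ y).trans hy
      have hTau : IsTau Δ (g⁻¹ * y * g) := by
        rcases hsall _ ho hzg with e | e <;> rw [e] <;> assumption
      simpa [mul_assoc] using hTau.conj g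
    · rw [hk2] at h3
      have : 2 * (e * (e - 1)) + 2 * e = 2 * e ^ 2 := by
        have : e * (e - 1) + e = e ^ 2 := by
          rw [Nat.mul_sub_one, Nat.sub_add_cancel (Nat.le_mul_self e), sq]
        omega
      omega
  · right
    have hk1 : k = 1 := by
      rw [hk, Finset.card_eq_one]
      refine ⟨s, Finset.ext fun u => ⟨fun hu => ?_, fun hu => Finset.mem_singleton.1 hu ▸ hsmem⟩⟩
      rcases Finset.mem_insert.1 (hsub hu) with e | e
      · exact Finset.mem_singleton.2 e
      · rw [Finset.mem_singleton] at e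
        simp [hT, e, hs'] at hu
    rw [hk1, one_mul] at h3
    refine ⟨?_, fun x y hxy => ?_⟩
    · have : e * (e - 1) + e = e ^ 2 := by
        rw [Nat.mul_sub_one, Nat.sub_add_cancel (Nat.le_mul_self e), sq]
      omega
    · obtain ⟨g, rfl, rfl⟩ := h.move hab hxy
      have hsw : IsSwap Δ s' := (isTau_or_isSwap hs'2).resolve_left hs'
      refine ⟨g * s' * g⁻¹, ⟨hsw.conj g, by rw [conj_smul_apply, hs'a]⟩, ?_⟩
      rintro u ⟨hu, hux⟩
      have hu' : (g⁻¹ * u * g) • a = b := by rw [mul_smul, mul_smul, hux, inv_smul_smul]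
      have hsu : IsSwap Δ (g⁻¹ * u * g) := by simpa using hu.conj g⁻¹
      rcases hsall _ hsu.1 hu' with e | e
      · exact absurd hsu (e ▸ hsT.not_isSwap)
      · rw [← e]; group

/-- The degree and the number of fixed points of a tau have the same parity. -/
theorem Hyp.parity {t : Y} (ht : IsTau Δ t) : Even (Nat.card Δ) ↔ Even (fixCard Δ t) := by
  rcases h.dichotomy ht with ⟨-, hf⟩ | ⟨hf, -⟩
  · have h2 : Even (Nat.card Δ + fixCard Δ t) := hf ▸ even_two_mul _
    exact Nat.even_add.1 h2
  · rw [hf]; simp [Nat.even_pow]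

end

end Cfsg.Agent.H6.AFour.Two
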