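import Mathlib

/-!
# Doubly transitive groups with two-point stabilisers of order two: definitions
-/

set_option autoImplicit false

namespace Cfsg.Agent.H6.AFour.Two

open MulAction

/-- A faithful doubly transitive action in which every two-point stabiliser has order two. -/
structure Hyp (Y Δ : Type*) [Group Y] [MulAction Y Δ] : Prop where
  faithful : FaithfulSMul Y Δ
  two : IsMultiplyPretransitive Y Δ 2
  nontriv : ∃ x y : Δ, x ≠ y
  stab_two : ∀ x y : Δ, x ≠ y → Nat.card ↥(stabilizer Y x ⊓ stabilizer Y y) = 2

variable {Y : Type*} [Group Y] (Δ : Type*) [MulAction Y Δ]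

/-- The number of fixed points. -/
noncomputable def fixCard (y : Y) : ℕ :=
  Nat.card (fixedBy Δ y)

/-- An element of order two fixing at least two points. -/
def IsTau (y : Y) : Prop :=
  orderOf y = 2 ∧ 2 ≤ fixCard Δ y

/-- An element of order two fixing at most one point. -/
def IsSwap (y : Y) : Prop :=
  orderOf y = 2 ∧ fixCard Δ y ≤ 1

end Cfsg.Agent.H6.AFour.Two
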