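import Cfsg.Agent.H6.AFour.Two.Block

/-!
# Two-point stabilisers of order two, one class of involutions: the taus fix evenly many points
-/

set_option autoImplicit false

namespace Cfsg.Agent.H6.AFour.Two

open MulAction
open Cfsg.Agent.H70

universe u v

variable {Y : Type u} [Group Y] [Finite Y] {Δ : Type v} [MulAction Y Δ] [Finite Δ]

/-- A nontrivial odd order group has no four group of fixed-point-free automorphisms. -/
theorem no_four_fpf {Q : Subgroup Y} (hQ : Q ≠ ⊥) (hodd : Odd (Nat.card ↥Q)) {a b : Y}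
    (ha : a * a = 1) (hb : b * b = 1) (hab : Commute a b)
    (haQ : a ∈ Subgroup.normalizer (Q : Set Y)) (hbQ : b ∈ Subgroup.normalizer (Q : Set Y))
    (hfa : ∀ q ∈ Q, Commute a q → q = 1) (hfb : ∀ q ∈ Q, Commute b q → q = 1)
    (hfab : ∀ q ∈ Q, Commute (a * b) q → q = 1) : False := by
  have inv : ∀ c : Y, c * c = 1 → c ∈ Subgroup.normalizer (Q : Set Y) →
      (∀ q ∈ Q, Commute c q → q = 1) → ∀ q ∈ Q, c * q * c⁻¹ = q⁻¹ := by
    intro c hc hcQ hfc q hq
    let φ : ↥Q →* ↥Q :=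
      { toFun := fun r => ⟨c * r * c⁻¹, (Subgroup.mem_normalizer_iff.1 hcQ r).1 r.2⟩
        map_one' := Subtype.ext (by simp)
        map_mul' := fun r s => Subtype.ext (by simp [mul_assoc]) }
    have hfpf : MonoidHom.FixedPointFree φ := fun r hr =>
      Subtype.ext (hfc r r.2 (mul_inv_eq_iff_eq_mul.1 (congrArg Subtype.val hr)))
    have hinv : Function.Involutive φ := fun r => Subtype.ext (by
      show c * (c * r * c⁻¹) * c⁻¹ = r
      calc c * (c * (r : Y) * c⁻¹) * c⁻¹ = (c * c) * r * (c * c)⁻¹ := by group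
        _ = r := by rw [hc]; group)
    exact congrArg Subtype.val (congrFun (hfpf.coe_eq_inv_of_involutive hinv) ⟨q, hq⟩)
  obtain ⟨q, hq, hq1⟩ := Q.bot_or_exists_ne_one.resolve_left hQ
  refine hq1 (hfab q hq ?_)
  have h1 := inv a ha haQ hfa q hq
  have h2 := inv b hb hbQ hfb q hq
  show a * b * q = q * (a * b)
  calc a * b * q = a * (b * q * b⁻¹) * b := by group
    _ = a * q⁻¹ * b := by rw [h2]
    _ = (a * q * a⁻¹)⁻¹ * (a * b) := by group
    _ = q * (a * b) := by rw [h1, inv_inv]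

section

variable (h : Hyp Y Δ)

include h

omit [Finite Y] in
/-- Another tau in the centraliser of a tau. -/
theorem Hyp.exists_commuting_tau {t : Y} (ht : IsTau Δ t) :
    ∃ v : Y, orderOf v = 2 ∧ v ≠ t ∧ Commute v t := by
  obtain ⟨x, y, hxy, hx, hy⟩ := exists_two_fix ht.2
  obtain ⟨v, hv, hvx, hvy⟩ := h.exists_tau_swap hxy
  refine ⟨v, hv.1, fun e => hxy ?_, h.commute_of_map ht hxy hx hy (by rw [hvx, hy]) (by rw [hvy, hx])⟩
  rw [← hvx, e, hx]

/-- The `p`-part of the block of a tau fixing an odd number of points. -/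
theorem Block.odd_part {t : Y} (ht : IsTau Δ t) (hodd : Odd (fixCard Δ t)) {p : ℕ} {S : Subgroup Y}
    (hS : Block Y Δ t p S) :
    ∃ P : Subgroup Y, P ≤ S ∧ Odd p ∧ p ∣ fixCard Δ t ∧ Nat.card ↥P = fixCard Δ t ∧
      Subgroup.centralizer ({t} : Set Y) ≤ Subgroup.normalizer (P : Set Y) ∧
      (∀ a b : Δ, t • a = a → t • b = b → ∃ g ∈ P, g • a = b) ∧
      (∀ g, g ∈ Subgroup.centralizer ({t} : Set Y) → g ∈ Subgroup.centralizer (P : Set Y) → g ∈ S) ∧
      (∀ g ∈ S, g ∈ Subgroup.centralizer (P : Set Y)) ∧ (∀ g ∈ S, g * g = 1 → g = 1 ∨ g = t) := by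
  obtain ⟨x, y, hxy, hx, hy⟩ := exists_two_fix ht.2
  obtain ⟨i, hi⟩ := hS.pow
  have hi0 : i ≠ 0 := fun e => by have := ht.2; rw [hi, e, pow_zero] at this; omega
  have hp : Odd p := by
    rcases Nat.odd_pow_iff hi0 |>.1 (hi ▸ hodd) with hp
    exact hp
  have htt := SameFix.sq_of_orderOf ht.1
  have htc : ∀ g ∈ S, Commute g t := fun g hg => Subgroup.mem_centralizer_singleton_iff.1 (hS.le hg)
  have htp : t ^ p = t := by
    obtain ⟨k, rfl⟩ := hp
    rw [pow_succ, pow_mul, pow_two, htt, one_pow, one_mul]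
  -- the block is abelian
  have hcomm : ∀ a ∈ S, ∀ b ∈ S, a * b = b * a := by
    intro a ha b hb
    rcases hS.comm a ha b hb with e | e
    · exact mul_inv_eq_iff_eq_mul.1 (mul_inv_eq_one.1 e)
    · exfalso
      have e1 : a * b * a⁻¹ = t * b := mul_inv_eq_iff_eq_mul.1 e
      have e2 : (a * b * a⁻¹) ^ p = t * b ^ p := by
        rw [e1, ((htc b hb).symm).mul_pow, htp]
      rw [conj_pow] at e2
      rcases hS.exp b hb with e3 | e3 <;> rw [e3] at e2
      · exact ht.ne_one (by simpa using e2.symm)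
      · rw [htt, (htc a ha).eq, mul_assoc, mul_inv_cancel, mul_one] at e2
        exact ht.ne_one e2
  let P : Subgroup Y :=
    { carrier := {g | g ∈ S ∧ g ^ p = 1}
      one_mem' := ⟨S.one_mem, one_pow p⟩
      mul_mem' := by
        rintro a b ⟨ha, hap⟩ ⟨hb, hbp⟩
        exact ⟨mul_mem ha hb, by rw [(show Commute a b from hcomm a ha b hb).mul_pow, hap, hbp, one_mul]⟩
      inv_mem' := by
        rintro a ⟨ha, hap⟩
        exact ⟨inv_mem ha, by rw [inv_pow, hap, inv_one]⟩ }
  have hsplit : ∀ g ∈ S, g ∈ P ∨ g * t ∈ P := by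
    intro g hg
    rcases hS.exp g hg with e | e
    · exact Or.inl ⟨hg, e⟩
    · exact Or.inr ⟨mul_mem hg hS.mem, by rw [(htc g hg).mul_pow, htp, e, htt]⟩
  have htP : t ∉ P := fun hm => ht.ne_one (htp ▸ hm.2)
  have htrans : ∀ a b : Δ, t • a = a → t • b = b → ∃ g ∈ P, g • a = b := by
    intro a b ha hb
    obtain ⟨g, hg, e⟩ := hS.trans a b ha hb
    rcases hsplit g hg with hg' | hg'
    · exact ⟨g, hg', e⟩
    · exact ⟨g * t, hg', by rw [mul_smul, ha, e]⟩
  have horb : orbit ↥P x = fixedBy Δ t := by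
    ext z
    constructor
    · rintro ⟨g, rfl⟩
      exact smul_fix_of_commute (htc g g.2.1) hx
    · intro hz
      obtain ⟨g, hg, e⟩ := htrans x z hx hz
      exact ⟨⟨g, hg⟩, e⟩
  have hst : stabilizer ↥P x = ⊥ := by
    rw [eq_bot_iff]
    rintro ⟨g, hg⟩ hgx
    rcases hS.free g hg.1 x hx hgx with rfl | rfl
    · exact Subgroup.mem_bot.2 rfl
    · exact absurd hg htP
  refine ⟨P, fun g hg => hg.1, hp, hi ▸ dvd_pow_self p hi0, ?_, ?_, htrans, ?_, ?_, ?_⟩
  · rw [← Subgroup.card_mul_index (stabilizer ↥P x), index_stabilizer, horb, hst, Subgroup.card_bot,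
      one_mul, fixCard, Nat.card_coe_set_eq]
  · intro c hc
    have key : ∀ c ∈ Subgroup.centralizer ({t} : Set Y), ∀ g ∈ P, c * g * c⁻¹ ∈ P := fun c hc g hg =>
      ⟨(Subgroup.mem_normalizer_iff.1 (hS.normal hc) g).1 hg.1,
        by rw [conj_pow, hg.2, mul_one, mul_inv_cancel]⟩
    rw [Subgroup.mem_normalizer_iff]
    refine fun g => ⟨fun hg => key c hc g hg, fun hg => ?_⟩
    simpa [mul_assoc] using key c⁻¹ (inv_mem hc) _ hg
  · intro g hgC hgP
    have hgt : Commute g t := Subgroup.mem_centralizer_singleton_iff.1 hgC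
    obtain ⟨n, hn, e⟩ := htrans x (g • x) hx (smul_fix_of_commute hgt hx)
    have hfix : ∀ z : Δ, t • z = z → (n⁻¹ * g) • z = z := by
      intro z hz
      obtain ⟨r, hr, rfl⟩ := htrans x z hx hz
      have hgr : r * g = g * r := Subgroup.mem_centralizer_iff.1 hgP r hr
      have hnr : n * r = r * n := hcomm n hn.1 r hr.1
      rw [mul_smul, inv_smul_eq_iff, smul_smul, ← hgr, mul_smul, ← e, smul_smul, smul_smul, hnr]
    rcases h.two_fix_one_or ht hxy hx hy (hfix x hx) (hfix y hy) with e' | e'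
    · rw [inv_mul_eq_one] at e'; exact e' ▸ hn.1
    · rw [inv_mul_eq_iff_eq_mul] at e'; exact e' ▸ mul_mem hn.1 hS.mem
  · intro g hg
    exact Subgroup.mem_centralizer_iff.2 fun r hr => hcomm r hr.1 g hg
  · intro g hg hgg
    rcases hsplit g hg with hg' | hg'
    · left
      obtain ⟨k, hk⟩ := hp
      have := hg'.2
      rwa [hk, pow_succ, pow_mul, pow_two, hgg, one_pow, one_mul] at this
    · right
      have hgt : (g * t) * (g * t) = 1 := by
        rw [(htc g hg).symm.mul_mul_mul_comm, hgg, htt, one_mul]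
      obtain ⟨k, hk⟩ := hp
      have := hg'.2
      rw [hk, pow_succ, pow_mul, pow_two, hgt, one_pow, one_mul, ← eq_inv_iff_mul_eq_one,
        inv_eq_self ht.1] at this
      exact this

theorem Hyp.even_of_oneClass (h1 : ∀ y : Y, orderOf y = 2 → IsTau Δ y) {t : Y} (ht : IsTau Δ t) :
    Even (fixCard Δ t) := by
  classical
  by_contra hne
  have hodd : Odd (fixCard Δ t) := Nat.not_even_iff_odd.1 hne
  haveI : Fact (Nat.Prime 2) := ⟨Nat.prime_two⟩
  obtain ⟨p, S, hS⟩ := h.exists_block ht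
  obtain ⟨P, hPS, hp, hpe, hPcard, hCN, hPtr, hcent, hScent, hSinv⟩ := Block.odd_part h ht hodd hS
  haveI : Fact p.Prime := ⟨hS.prime⟩
  have hp2 : p ≠ 2 := fun e => by rw [e] at hp; exact absurd hp (by decide)
  set e := fixCard Δ t with he
  have he3 : 3 ≤ e := by
    have := ht.2; obtain ⟨k, hk⟩ := hodd; omega
  have hf : Nat.card Δ = e * (2 * e - 1) := by
    rcases h.dichotomy ht with ⟨-, hf⟩ | ⟨-, huniq⟩
    · rw [Nat.mul_sub, mul_one, ← he] at *
      have : e * (2 * e) = 2 * e ^ 2 := by ring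
      omega
    · obtain ⟨a, b, hab⟩ := h.nontriv
      obtain ⟨s, ⟨hs, -⟩, -⟩ := huniq a b hab
      exact absurd hs (h1 s hs.1).not_isSwap
  -- numbers
  obtain ⟨c, hc⟩ : ∃ c, e = c + 1 := ⟨e - 1, by omega⟩
  have hC : Nat.card ↥(Subgroup.centralizer ({t} : Set Y)) = 2 * e * (e - 1) := h.card_centralizer ht
  have hf1 : Nat.card Δ - 1 = (2 * e + 1) * (e - 1) := by
    rw [hf, hc, show 2 * (c + 1) - 1 = 2 * c + 1 by omega, Nat.add_sub_cancel]
    have : (c + 1) * (2 * c + 1) = (2 * (c + 1) + 1) * c + 1 := by ring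
    omega
  have hY : Nat.card Y = 2 * e * (e - 1) * ((2 * e - 1) * (2 * e + 1)) := by
    rw [h.card_group, hf1, hf]; ring
  have hgcd1 : ∀ q : ℕ, q.Prime → q ∣ 2 * e - 1 → ¬ q ∣ 2 * e * (e - 1) := by
    intro q hq hq1 hq2
    have hq21 : ¬ q ∣ 1 := hq.not_dvd_one
    rcases (Nat.Prime.dvd_mul hq).1 hq2 with h2 | h2
    · have := Nat.dvd_sub h2 hq1
      rw [show 2 * e - (2 * e - 1) = 1 by omega] at this
      exact hq21 this
    · have := Nat.dvd_sub hq1 (h2.mul_left 2)
      rw [show 2 * e - 1 - 2 * (e - 1) = 1 by omega] at this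
      exact hq21 this
  have hpp := hS.prime
  have hp1 : ¬ p ∣ 2 * e - 1 := fun hd => hgcd1 p hpp hd ((hpe.mul_left 2).mul_right _)
  have hp2' : ¬ p ∣ 2 * e + 1 := fun hd => by
    have := Nat.dvd_sub hd (hpe.mul_left 2)
    rw [show 2 * e + 1 - 2 * e = 1 by omega] at this
    exact hpp.not_dvd_one this
  have hp3 : ¬ p ∣ e - 1 := fun hd => by
    have := Nat.dvd_sub hpe hd
    rw [show e - (e - 1) = 1 by omega] at this
    exact hpp.not_dvd_one this
  have hp4 : ¬ p ∣ 2 := fun hd => hp2 ((Nat.prime_dvd_prime_iff_eq hpp Nat.prime_two).1 hd)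
  have hepos : 0 < e := by omega
  have hPp : IsPGroup p ↥P := by
    obtain ⟨i, hi⟩ := hS.pow
    exact IsPGroup.of_card (n := i) (hPcard.trans hi)
  -- `P` is a Sylow subgroup
  have hPidx : P.index = 2 * (e - 1) * ((2 * e - 1) * (2 * e + 1)) := by
    have := P.card_mul_index
    rw [hPcard, hY] at this
    exact Nat.eq_of_mul_eq_mul_left hepos (this.trans (by ring))
  have hPndvd : ¬ p ∣ P.index := by
    rw [hPidx]
    intro hd
    rcases hpp.dvd_mul.1 hd with hd | hd
    · rcases hpp.dvd_mul.1 hd with hd | hd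
      · exact hp4 hd
      · exact hp3 hd
    · rcases hpp.dvd_mul.1 hd with hd | hd
      · exact hp1 hd
      · exact hp2' hd
  let Pp : Sylow p Y := hPp.toSylow hPndvd
  set NP := Subgroup.normalizer (P : Set Y) with hNP
  have hnP : (Nat.card (Sylow p Y)) = NP.index := Pp.card_eq_index_normalizer
  have hn1 : NP.index ≡ 1 [MOD p] := hnP ▸ card_sylow_modEq_one p Y
  set M := Subgroup.centralizer (P : Set Y) with hM
  have htM : t ∈ M := hScent t hS.mem
  have hMN : ∀ g ∈ NP, ∀ m ∈ M, g * m * g⁻¹ ∈ M := by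
    intro g hg m hm
    refine Subgroup.mem_centralizer_iff.2 fun r hr => ?_
    have hr' : g⁻¹ * r * g ∈ P := by
      have := (Subgroup.mem_normalizer_iff.1 (inv_mem hg) r).1 hr
      simpa using this
    have := Subgroup.mem_centralizer_iff.1 hm _ hr'
    calc r * (g * m * g⁻¹) = g * ((g⁻¹ * r * g) * m) * g⁻¹ := by group
      _ = g * (m * (g⁻¹ * r * g)) * g⁻¹ := by rw [this]
      _ = g * m * g⁻¹ * r := by group
  have hMNP : M ≤ NP := Subgroup.centralizer_le_normalizer _
  -- involutions of `M` commuting with `t`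
  have hinvM : ∀ u ∈ M, u * u = 1 → Commute u t → u = 1 ∨ u = t := fun u hu huu hut =>
    hSinv u (hcent u (Subgroup.mem_centralizer_singleton_iff.2 hut) hu) huu
  -- the conjugates of `t` in `NP`
  set K := {u : Y | ∃ g ∈ NP, g * t * g⁻¹ = u} with hK
  have hKtau : ∀ u ∈ K, IsTau Δ u := by
    rintro u ⟨g, -, rfl⟩; exact ht.conj g
  have hKM : ∀ u ∈ K, u ∈ M := by
    rintro u ⟨g, hg, rfl⟩; exact hMN g hg t htM
  have hcount : Nat.card ↥K * (2 * e * (e - 1)) = Nat.card ↥NP := by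
    let f : ↥NP → ↥K := fun g => ⟨_, g, g.2, rfl⟩
    have hfib : ∀ u : ↥K, Nat.card {g : ↥NP // f g = u} = 2 * e * (e - 1) := by
      rintro ⟨_, g0, hg0, rfl⟩
      rw [← hC]
      refine Nat.card_congr
        { toFun := fun g => ⟨g0⁻¹ * g.1, Subgroup.mem_centralizer_singleton_iff.2 ?_⟩
          invFun := fun c => ⟨⟨g0 * c, mul_mem hg0 (hCN c.2)⟩, Subtype.ext ?_⟩
          left_inv := fun g => Subtype.ext (Subtype.ext (by simp))
          right_inv := fun c => Subtype.ext (by simp) }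
      · have := congrArg Subtype.val g.2
        change (g.1 : Y) * t * (g.1 : Y)⁻¹ = g0 * t * g0⁻¹ at this
        calc g0⁻¹ * (g.1 : Y) * t = g0⁻¹ * ((g.1 : Y) * t * (g.1 : Y)⁻¹) * g.1 := by group
          _ = g0⁻¹ * (g0 * t * g0⁻¹) * g.1 := by rw [this]
          _ = t * (g0⁻¹ * (g.1 : Y)) := by group
      · show g0 * (c : Y) * t * (g0 * (c : Y))⁻¹ = g0 * t * g0⁻¹
        rw [mul_assoc g0 _ t, show (c : Y) * t = t * c from Subgroup.mem_centralizer_singleton_iff.1 c.2]
        group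
    haveI := Fintype.ofFinite ↥K
    rw [← Nat.card_congr (Equiv.sigmaFiberEquiv f), Nat.card_sigma,
      Finset.sum_congr rfl (fun u _ => hfib u), Finset.sum_const, smul_eq_mul, Finset.card_univ,
      Nat.card_eq_fintype_card]
  set s0 := Nat.card ↥K with hs0
  have hprod : s0 * NP.index = (2 * e - 1) * (2 * e + 1) := by
    have := NP.card_mul_index
    rw [← hcount, hY] at this
    have hpos : 0 < 2 * e * (e - 1) := Nat.mul_pos (by omega) (by omega)
    exact Nat.eq_of_mul_eq_mul_left hpos (by rw [← this]; ring)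
  have htK : t ∈ K := ⟨1, one_mem _, by simp⟩
  have hKfix : ∀ u ∈ K, ∀ a b : Δ, u • a = a → u • b = b → ∃ r ∈ P, r • a = b := by
    rintro u ⟨g, hg, rfl⟩ a b ha hb
    rw [mul_smul, mul_smul, ← eq_inv_smul_iff] at ha hb
    obtain ⟨r, hr, e⟩ := hPtr _ _ ha hb
    refine ⟨g * r * g⁻¹, (Subgroup.mem_normalizer_iff.1 hg r).1 hr, ?_⟩
    rw [mul_smul, mul_smul, e, smul_inv_smul]
  have hKeq : ∀ u ∈ K, ∀ u' ∈ K, ∀ a : Δ, u • a = a → u' • a = a → u = u' := by
    intro u hu u' hu' a ha ha'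
    obtain ⟨b1, b2, hb12, hb1, hb2⟩ := exists_two_fix (hKtau u hu).2
    obtain ⟨b, hb, hba⟩ : ∃ b : Δ, u • b = b ∧ b ≠ a := by
      by_cases hc1 : b1 = a
      · exact ⟨b2, hb2, fun e => hb12 (hc1.trans e.symm)⟩
      · exact ⟨b1, hb1, hc1⟩
    obtain ⟨r, hr, hrb⟩ := hKfix u hu a b ha hb
    have hru' : Commute r u' := Subgroup.mem_centralizer_iff.1 (hKM u' hu') r hr
    exact h.tau_unique (hKtau u hu) (hKtau u' hu') (Ne.symm hba) ha hb ha'
      (hrb ▸ smul_fix_of_commute hru' ha')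
  have hbound : s0 * e ≤ Nat.card Δ := by
    haveI := Fintype.ofFinite ↥K
    have : Nat.card (Σ u : ↥K, ↥(fixedBy Δ (u : Y))) ≤ Nat.card Δ := by
      refine Nat.card_le_card_of_injective (fun z => (z.2 : Δ)) ?_
      rintro ⟨u, a, ha⟩ ⟨u', a', ha'⟩ (rfl : a = a')
      obtain rfl : u = u' := Subtype.ext (hKeq _ u.2 _ u'.2 a ha ha')
      rfl
    have hsum : ∀ u : ↥K, Nat.card ↥(fixedBy Δ (u : Y)) = e := fun u => h.fixCard_eq ht (hKtau u u.2)
    rwa [Nat.card_sigma, Finset.sum_congr rfl (fun (u : ↥K) _ => hsum u),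
      Finset.sum_const, smul_eq_mul, Finset.card_univ, ← Nat.card_eq_fintype_card] at this
  have hs0le : s0 ≤ 2 * e - 1 := by
    refine Nat.le_of_mul_le_mul_right ?_ hepos
    rw [hf] at hbound; linarith [mul_comm e (2 * e - 1)]
  -- the orbits of the centraliser on the other conjugates
  have hmod : (e - 1) ∣ (s0 - 1) := by
    set Ct := Subgroup.centralizer ({t} : Set Y) with hCt
    let act : MulAction ↥Ct ↥(K \ {t}) :=
      { smul := fun c u => ⟨c * u * (c : Y)⁻¹, by
          obtain ⟨⟨g, hg, hgu⟩, hut⟩ := u.2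
          refine ⟨⟨c * g, mul_mem (hCN c.2) hg, by rw [← hgu]; group⟩, fun e => hut ?_⟩
          rw [Set.mem_singleton_iff] at e ⊢
          have hct : (c : Y) * t = t * c := Subgroup.mem_centralizer_singleton_iff.1 c.2
          calc (u : Y) = (c : Y)⁻¹ * ((c : Y) * u * (c : Y)⁻¹) * c := by group
            _ = (c : Y)⁻¹ * t * c := by rw [e]
            _ = t := by rw [mul_assoc, ← hct]; group⟩
        one_smul := fun u => Subtype.ext (show (1 : Y) * u * (1 : Y)⁻¹ = u by group)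
        mul_smul := fun a b u => Subtype.ext (show (a * b : Y) * u * (a * b : Y)⁻¹ =
          a * (b * u * (b : Y)⁻¹) * (a : Y)⁻¹ by group) }
    letI := act
    have horb : ∀ u : ↥(K \ {t}), (e - 1) ∣ (orbit ↥Ct u).ncard := by
      rintro ⟨u, huK, hut⟩
      rw [Set.mem_singleton_iff] at hut
      set D := (Ct ⊓ Subgroup.centralizer ({u} : Set Y)) with hD
      have hst : Nat.card ↥(stabilizer ↥Ct (⟨u, huK, hut⟩ : ↥(K \ {t}))) = Nat.card ↥D := by
        refine Nat.card_congr
          { toFun := fun c => ⟨c.1.1, c.1.2, Subgroup.mem_centralizer_singleton_iff.2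
              (mul_inv_eq_iff_eq_mul.1 (congrArg Subtype.val c.2))⟩
            invFun := fun c => ⟨⟨c.1, c.2.1⟩, Subtype.ext
              (mul_inv_eq_iff_eq_mul.2 (Subgroup.mem_centralizer_singleton_iff.1 c.2.2))⟩
            left_inv := fun c => rfl
            right_inv := fun c => rfl }
      have hPD : P ≤ D := fun r hr => ⟨hS.le (hPS hr), Subgroup.mem_centralizer_singleton_iff.2
        (Subgroup.mem_centralizer_iff.1 (hKM u huK) r hr)⟩
      have hedvd : e ∣ Nat.card ↥D := hPcard ▸ Subgroup.card_dvd_of_le hPD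
      obtain ⟨a, b, hab, ha, hb⟩ := exists_two_fix (hKtau u huK).2
      have hta : t • a ≠ a := fun e => hut (hKeq u huK t htK a ha e)
      obtain ⟨w, -, hwa, hwta, hwu⟩ := h.pair hta.symm
      have hle : Nat.card ↥D ≤ e * 2 := by
        have hstab : Nat.card ↥(stabilizer ↥D a) ≤ 2 := by
          refine (Nat.card_le_card_of_injective (fun d : ↥(stabilizer ↥D a) => decide ((d.1.1 : Y) = 1))
            ?_).trans (by simp)
          intro d d' hdd
          have hval : ∀ d : ↥(stabilizer ↥D a), (d.1.1 : Y) = 1 ∨ (d.1.1 : Y) = w := fun d => by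
            refine hwu _ d.2 ?_
            rw [smul_smul, Subgroup.mem_centralizer_singleton_iff.1 d.1.2.1, mul_smul]
            exact congrArg (t • ·) d.2
          have hiff : (d.1.1 : Y) = 1 ↔ (d'.1.1 : Y) = 1 := decide_eq_decide.1 hdd
          refine Subtype.ext (Subtype.ext ?_)
          rcases hval d with h1 | h1
          · rw [h1, hiff.1 h1]
          · rcases hval d' with h2 | h2
            · rw [h2, hiff.2 h2]
            · rw [h1, h2]
        have horbit : (orbit ↥D a).ncard ≤ e := by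
          refine le_of_le_of_eq (Set.ncard_le_ncard (t := fixedBy Δ u) ?_ (Set.toFinite _)) ?_
          · rintro z ⟨d, rfl⟩
            exact smul_fix_of_commute (Subgroup.mem_centralizer_singleton_iff.1 d.2.2) ha
          · rw [← Nat.card_coe_set_eq]; exact h.fixCard_eq ht (hKtau u huK)
        rw [← Subgroup.card_mul_index (stabilizer ↥D a), index_stabilizer, mul_comm e]
        exact Nat.mul_le_mul hstab horbit
      have horbcard : Nat.card ↥D * (orbit ↥Ct (⟨u, huK, hut⟩ : ↥(K \ {t}))).ncard = 2 * e * (e - 1) := by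
        rw [← hst, ← index_stabilizer, Subgroup.card_mul_index, hC]
      obtain ⟨j, hj⟩ := hedvd
      have hj2 : j = 1 ∨ j = 2 := by
        have hjpos : j ≠ 0 := fun e' => by
          rw [e', mul_zero] at hj
          exact Nat.card_pos.ne' hj
        have : j ≤ 2 := Nat.le_of_mul_le_mul_left (hj ▸ hle) hepos
        omega
      rw [hj, mul_assoc] at horbcard
      have h3 : j * (orbit ↥Ct (⟨u, huK, hut⟩ : ↥(K \ {t}))).ncard = 2 * (e - 1) :=
        Nat.eq_of_mul_eq_mul_left hepos (horbcard.trans (by ring))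
      rcases hj2 with rfl | rfl
      · exact ⟨2, by rw [one_mul] at h3; rw [h3, mul_comm]⟩
      · exact ⟨1, by rw [mul_one]; omega⟩
    have hK1 : Nat.card ↥(K \ {t}) = s0 - 1 := by
      rw [Nat.card_coe_set_eq, Set.ncard_diff_singleton_of_mem htK, hs0, Nat.card_coe_set_eq]
    rw [← hK1]
    haveI := Fintype.ofFinite ↥(K \ {t})
    haveI := Fintype.ofFinite (Quotient (orbitRel ↥Ct ↥(K \ {t})))
    rw [Nat.card_congr (MulAction.selfEquivSigmaOrbits ↥Ct ↥(K \ {t})), Nat.card_sigma]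
    exact Finset.dvd_sum fun o _ => by
      rw [Nat.card_coe_set_eq]
      exact horb o.out
  obtain ⟨a, ha⟩ := hmod
  have hs0pos : 1 ≤ s0 := by
    rw [hs0]; exact Nat.card_pos_iff.2 ⟨⟨⟨t, htK⟩⟩, inferInstance⟩
  have ha2 : a ≤ 2 := by
    by_contra hcon
    have : 3 * (e - 1) ≤ (e - 1) * a := by rw [mul_comm]; exact Nat.mul_le_mul_left _ (by omega)
    omega
  have hs0eq : s0 = 2 * e - 1 := by
    rcases (show a = 0 ∨ a = 1 ∨ a = 2 by omega) with rfl | rfl | rfl
    · exfalso
      rw [show s0 = 1 by omega, one_mul] at hprod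
      rw [hprod] at hn1
      have h4 : (2 * e - 1) * (2 * e + 1) + 1 = p * (4 * (e / p) * e) := by
        obtain ⟨k, hk⟩ := hpe
        rw [hk, Nat.mul_div_cancel_left _ hpp.pos, ← hk]
        have h5 : (2 * e - 1) * (2 * e + 1) + 1 = 4 * (e * e) := by
          rw [hc, show 2 * (c + 1) - 1 = 2 * c + 1 by omega]; ring
        rw [h5]; conv_lhs => arg 2; arg 1; rw [hk]
        ring
      have h5 : (2 * e - 1) * (2 * e + 1) + 1 ≡ 2 [MOD p] := hn1.add_right 1
      rw [h4] at h5
      have h6 : 2 ≡ 0 [MOD p] := h5.symm.trans ((Nat.modEq_zero_iff_dvd).2 (dvd_mul_right _ _))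
      exact hp4 (Nat.modEq_zero_iff_dvd.1 h6)
    · exfalso
      rw [show s0 = e by omega] at hprod
      have h7 : p ∣ (2 * e - 1) * (2 * e + 1) := hprod ▸ hpe.mul_right _
      rcases hpp.dvd_mul.1 h7 with hd | hd
      · exact hp1 hd
      · exact hp2' hd
    · omega
  -- all members of `K` are conjugate to `t` in `M`
  have hMconj : ∀ u ∈ K, ∃ d ∈ M, d * t * d⁻¹ = u := by
    intro u hu
    by_cases hut : u = t
    · exact ⟨1, one_mem _, by rw [hut]; group⟩
    set w := t * u with hw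
    have huu := SameFix.sq_of_orderOf (hKtau u hu).1
    have htt := SameFix.sq_of_orderOf ht.1
    have hwM : w ∈ M := mul_mem htM (hKM u hu)
    have htw : t * w * t⁻¹ = w⁻¹ := by
      rw [hw, mul_inv_rev, inv_eq_self ht.1, inv_eq_self (hKtau u hu).1, ← mul_assoc t t u, htt, one_mul]
    have hwo : Odd (orderOf w) := by
      by_contra hev
      rw [Nat.not_odd_iff_even] at hev
      obtain ⟨m, hm⟩ := hev
      have hwpos := orderOf_pos w
      have hz1 : w ^ m ≠ 1 := fun e => by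
        have := orderOf_le_of_pow_eq_one (show 0 < m by omega) e
        omega
      have hzz : w ^ m * w ^ m = 1 := by rw [← pow_add, ← hm, pow_orderOf_eq_one]
      have hzt : Commute (w ^ m) t := by
        have h8 : t * w ^ m * t⁻¹ = w ^ m := by
          rw [← conj_pow, htw, inv_pow]
          exact (inv_eq_of_mul_eq_one_right hzz)
        exact ((mul_inv_eq_iff_eq_mul.1 h8).symm : w ^ m * t = t * w ^ m)
      have hzeq := (hinvM _ (pow_mem hwM m) hzz hzt).resolve_left hz1
      have htw' : Commute t w := hzeq ▸ (Commute.pow_self w m)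
      have hutc : Commute u t := by
        have h9 : t * u * t = t * (t * u) := (htw'.eq.symm : t * u * t = t * (t * u))
        rw [mul_assoc] at h9
        exact mul_left_cancel h9
      rcases hinvM u (hKM u hu) huu hutc with h10 | h10
      · exact (hKtau u hu).ne_one h10
      · exact hut h10
    obtain ⟨m, hm⟩ := hwo
    refine ⟨w ^ m, pow_mem hwM m, ?_⟩
    have h11 : w ^ m * t = t * (w ^ m)⁻¹ := by
      have h12 : t * w ^ m * t⁻¹ = (w ^ m)⁻¹ := by rw [← conj_pow, htw, inv_pow]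
      rw [inv_eq_self ht.1] at h12
      rw [← h12, mul_assoc t (w ^ m) t, ← mul_assoc t t, htt, one_mul]
    rw [h11, mul_assoc, ← mul_inv_rev, ← pow_add]
    have h13 : (w ^ (m + m))⁻¹ = w := by
      rw [inv_eq_iff_mul_eq_one, ← pow_succ, show m + m + 1 = 2 * m + 1 by omega, ← hm,
        pow_orderOf_eq_one]
    rw [h13, hw, ← mul_assoc, htt, one_mul]
  have hMcard : Nat.card ↥M = (2 * e - 1) * (2 * e) := by
    let f : ↥M → ↥K := fun g => ⟨_, g, hMNP g.2, rfl⟩
    have hfib : ∀ u : ↥K, Nat.card {g : ↥M // f g = u} = 2 * e := by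
      rintro ⟨u, hu⟩
      obtain ⟨d, hd, hdu⟩ := hMconj u hu
      rw [← hS.card]
      refine Nat.card_congr
        { toFun := fun g => ⟨d⁻¹ * g.1, hcent _ (Subgroup.mem_centralizer_singleton_iff.2 ?_)
            (mul_mem (inv_mem hd) g.1.2)⟩
          invFun := fun c => ⟨⟨d * c, mul_mem hd (hScent c c.2)⟩, Subtype.ext ?_⟩
          left_inv := fun g => Subtype.ext (Subtype.ext (by simp))
          right_inv := fun c => Subtype.ext (by simp) }
      · have := congrArg Subtype.val g.2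
        change (g.1 : Y) * t * (g.1 : Y)⁻¹ = u at this
        calc d⁻¹ * (g.1 : Y) * t = d⁻¹ * ((g.1 : Y) * t * (g.1 : Y)⁻¹) * g.1 := by group
          _ = d⁻¹ * (d * t * d⁻¹) * g.1 := by rw [this, hdu]
          _ = t * (d⁻¹ * (g.1 : Y)) := by group
      · show d * (c : Y) * t * (d * (c : Y))⁻¹ = u
        rw [mul_assoc d _ t,
          show (c : Y) * t = t * c from Subgroup.mem_centralizer_singleton_iff.1 (hS.le c.2), ← hdu]
        group
    haveI := Fintype.ofFinite ↥K
    rw [← Nat.card_congr (Equiv.sigmaFiberEquiv f), Nat.card_sigma,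
      Finset.sum_congr rfl (fun u _ => hfib u), Finset.sum_const, smul_eq_mul, Finset.card_univ,
      ← Nat.card_eq_fintype_card, ← hs0, hs0eq]
  -- the normal 2-complement of `M` and an invariant Sylow subgroup
  have h2z : IsPGroup 2 ↥((Subgroup.zpowers t).subgroupOf M) := IsPGroup.of_card (n := 1) (by
    rw [Nat.card_congr (Subgroup.subgroupOfEquivOfLe (Subgroup.zpowers_le.2 htM)).toEquiv,
      Nat.card_zpowers, ht.1, pow_one])
  have h2idx : ¬ 2 ∣ ((Subgroup.zpowers t).subgroupOf M).index := by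
    have := ((Subgroup.zpowers t).subgroupOf M).card_mul_index
    rw [Nat.card_congr (Subgroup.subgroupOfEquivOfLe (Subgroup.zpowers_le.2 htM)).toEquiv,
      Nat.card_zpowers, ht.1, hMcard] at this
    have h14 : ((Subgroup.zpowers t).subgroupOf M).index = (2 * e - 1) * e :=
      Nat.eq_of_mul_eq_mul_left two_pos (this.trans (by ring))
    rw [h14, Nat.prime_two.dvd_mul]
    rintro (hd | hd)
    · omega
    · exact hne (even_iff_two_dvd.2 hd)
  let T : Sylow 2 ↥M := h2z.toSylow h2idx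
  have hTcard : Nat.card ↥(T : Subgroup ↥M) = 2 := by
    show Nat.card ↥((Subgroup.zpowers t).subgroupOf M) = 2
    rw [Nat.card_congr (Subgroup.subgroupOfEquivOfLe (Subgroup.zpowers_le.2 htM)).toEquiv,
      Nat.card_zpowers, ht.1]
  have hTc : Subgroup.normalizer ((T : Subgroup ↥M) : Set ↥M) ≤
      Subgroup.centralizer ((T : Subgroup ↥M) : Set ↥M) := by
    intro g hg
    refine Subgroup.mem_centralizer_iff.2 fun s hs => ?_
    obtain ⟨z, hz, huz⟩ := (Nat.card_eq_two_iff' (1 : ↥(T : Subgroup ↥M))).1 hTcard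
    by_cases hs1 : s = 1
    · simp [hs1]
    have hgs := (Subgroup.mem_normalizer_iff.1 hg s).1 hs
    have e1 := congrArg Subtype.val (huz ⟨s, hs⟩ (fun e => hs1 (congrArg Subtype.val e)))
    have e2 := congrArg Subtype.val (huz ⟨_, hgs⟩ (fun e => hs1 (conj_eq_one_iff.1 (congrArg Subtype.val e))))
    exact (mul_inv_eq_iff_eq_mul.1 (e2.trans e1.symm)).symm
  have hcompl := MonoidHom.ker_transferSylow_isComplement' T hTc
  set M0 := (MonoidHom.transferSylow T hTc).ker with hM0
  have hM0card : Nat.card ↥M0 = (2 * e - 1) * e := by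
    have h15 := hcompl.card_mul
    rw [hTcard, hMcard] at h15
    exact Nat.eq_of_mul_eq_mul_right two_pos (h15.trans (by ring))
  haveI : M0.Normal := MonoidHom.normal_ker _
  obtain ⟨v, hv, hvt, hvc⟩ := h.exists_commuting_tau ht
  have htC : t ∈ Subgroup.centralizer ({t} : Set Y) := Subgroup.mem_centralizer_singleton_iff.2 rfl
  have hvC : v ∈ Subgroup.centralizer ({t} : Set Y) := Subgroup.mem_centralizer_singleton_iff.2 hvc
  set M1 := M0.map M.subtype with hM1
  have hM1card : Nat.card ↥M1 = (2 * e - 1) * e := by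
    rw [hM1, ← Nat.card_congr (M0.equivMapOfInjective _ M.subtype_injective).toEquiv, hM0card]
  have hM1odd : ∀ g ∈ M, Odd (orderOf g) → g ∈ M1 := by
    intro g hg hgo
    refine ⟨⟨g, hg⟩, MonoidHom.mem_ker.2 ?_, rfl⟩
    set z := MonoidHom.transferSylow T hTc ⟨g, hg⟩
    have h16 : orderOf z ∣ orderOf g := by
      rw [← Subgroup.orderOf_mk g hg]; exact orderOf_map_dvd _ _
    have h17 : orderOf z ∣ 2 := (orderOf_dvd_natCard z).trans (dvd_of_eq hTcard)
    rcases (Nat.dvd_prime Nat.prime_two).1 h17 with h18 | h18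
    · exact orderOf_eq_one_iff.1 h18
    · rw [h18] at h16
      exact absurd (even_iff_two_dvd.2 h16) (Nat.not_even_iff_odd.2 hgo)
  have hM1oddcard : Odd (Nat.card ↥M1) := by
    rw [hM1card]; exact Odd.mul ⟨e - 1, by omega⟩ hodd
  have hM1le : M1 ≤ M := Subgroup.map_subtype_le _
  have hM1norm : Subgroup.centralizer ({t} : Set Y) ≤ Subgroup.normalizer (M1 : Set Y) := by
    have key : ∀ c ∈ Subgroup.centralizer ({t} : Set Y), ∀ g ∈ M1, c * g * c⁻¹ ∈ M1 := fun c hc g hg =>
      hM1odd _ (hMN c (hCN hc) g (hM1le hg)) (by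
        rw [orderOf_conj]
        exact Odd.of_dvd_nat hM1oddcard (Subgroup.orderOf_dvd_natCard M1 hg))
    intro c hc
    rw [Subgroup.mem_normalizer_iff]
    refine fun g => ⟨fun hg => key c hc g hg, fun hg => ?_⟩
    simpa [mul_assoc] using key c⁻¹ (inv_mem hc) _ hg
  obtain ⟨q, hq, hqd⟩ := Nat.exists_prime_and_dvd (show 2 * e - 1 ≠ 1 by omega)
  haveI : Fact q.Prime := ⟨hq⟩
  let V := Subgroup.closure ({t, v} : Set Y)
  have hVC : V ≤ Subgroup.centralizer ({t} : Set Y) := (Subgroup.closure_le _).2 (by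
    rintro g (rfl | rfl)
    · exact htC
    · exact hvC)
  have hV2 : IsPGroup 2 ↥V := by
    haveI : IsMulCommutative ↥V := Subgroup.isMulCommutative_closure (by
      rintro a (rfl | rfl) b (rfl | rfl) <;> first | rfl | exact hvc.eq | exact hvc.eq.symm)
    rintro ⟨g, hg⟩
    refine ⟨1, Subtype.ext ?_⟩
    show g ^ 2 ^ 1 = 1
    rw [pow_one]
    induction hg using Subgroup.closure_induction with
    | mem a ha =>
      rcases ha with rfl | rfl
      · rw [pow_two, SameFix.sq_of_orderOf ht.1]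
      · rw [pow_two, SameFix.sq_of_orderOf hv]
    | one => exact one_pow 2
    | mul a b ha hb iha ihb =>
      rw [(show Commute a b from congrArg Subtype.val
        ((IsMulCommutative.is_comm (M := ↥V)).comm ⟨a, ha⟩ ⟨b, hb⟩)).mul_pow, iha, ihb, one_mul]
    | inv a ha iha => rw [inv_pow, iha, inv_one]
  obtain ⟨R⟩ : Nonempty (Sylow q ↥M1) := inferInstance
  let act : MulDistribMulAction ↥V ↥M1 :=
    { smul := fun c g => ⟨c * g * (c : Y)⁻¹, (Subgroup.mem_normalizer_iff.1 (hM1norm (hVC c.2)) g).1 g.2⟩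
      one_smul := fun g => Subtype.ext (show (1 : Y) * g * (1 : Y)⁻¹ = g by group)
      mul_smul := fun a b g => Subtype.ext (show (a * b : Y) * g * (a * b : Y)⁻¹ =
        a * (b * g * (b : Y)⁻¹) * (a : Y)⁻¹ by group)
      smul_mul := fun c a b => Subtype.ext (show (c : Y) * (a * b) * (c : Y)⁻¹ =
        (c * a * (c : Y)⁻¹) * (c * b * (c : Y)⁻¹) by group)
      smul_one := fun c => Subtype.ext (show (c : Y) * 1 * (c : Y)⁻¹ = 1 by group) }
  letI := act
  obtain ⟨Q, hQ⟩ := hV2.nonempty_fixed_point_of_prime_not_dvd_card (Sylow q ↥M1) (fun hd => by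
    have h19 : Nat.card (Sylow q ↥M1) ∣ Nat.card ↥M1 := by
      rw [R.card_eq_index_normalizer]; exact Subgroup.index_dvd_card _
    exact Nat.not_even_iff_odd.2 (Odd.of_dvd_nat hM1oddcard h19) (even_iff_two_dvd.2 hd))
  set Qy := (Q : Subgroup ↥M1).map M1.subtype with hQy
  have hQne : Qy ≠ ⊥ := by
    rw [hQy, Ne, Subgroup.map_eq_bot_iff_of_injective _ M1.subtype_injective]
    exact Q.ne_bot_of_dvd_card (hM1card ▸ hqd.mul_right _)
  have hQn : ∀ c ∈ V, c ∈ Subgroup.normalizer (Qy : Set Y) := by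
    have key : ∀ c ∈ V, ∀ g ∈ Qy, c * g * c⁻¹ ∈ Qy := by
      rintro c hc _ ⟨g, hg, rfl⟩
      have h20 : (⟨c, hc⟩ : ↥V) • g ∈ ((⟨c, hc⟩ : ↥V) • Q : Sylow q ↥M1) :=
        Subgroup.smul_mem_pointwise_smul g _ _ hg
      rw [show (⟨c, hc⟩ : ↥V) • Q = Q from hQ ⟨c, hc⟩] at h20
      exact ⟨_, h20, rfl⟩
    intro c hc
    rw [Subgroup.mem_normalizer_iff]
    refine fun g => ⟨fun hg => key c hc g hg, fun hg => ?_⟩
    simpa [mul_assoc] using key c⁻¹ (inv_mem hc) _ hg
  have hQodd : Odd (Nat.card ↥Qy) := Odd.of_dvd_nat hM1oddcard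
    (Subgroup.card_dvd_of_le (Subgroup.map_subtype_le _))
  have hQfree : ∀ c : Y, IsTau Δ c → ∀ g ∈ Qy, Commute c g → g = 1 := by
    rintro c hc _ ⟨g, hg, rfl⟩ hcg
    obtain ⟨k, hk⟩ := Q.2 ⟨g, hg⟩
    have hgk : (g : Y) ^ q ^ k = 1 := by simpa using congrArg (fun z : ↥(Q : Subgroup ↥M1) => ((z : ↥M1) : Y)) hk
    have hcop : Nat.Coprime (q ^ k) (2 * e * (e - 1)) :=
      Nat.Coprime.pow_left k (hq.coprime_iff_not_dvd.2 (hgcd1 q hq hqd))
    have hd : orderOf (g : Y) ∣ 2 * e * (e - 1) := by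
      rw [show 2 * e * (e - 1) = Nat.card ↥(Subgroup.centralizer ({c} : Set Y)) by
        rw [h.card_centralizer hc, h.fixCard_eq ht hc]]
      exact Subgroup.orderOf_dvd_natCard _ (Subgroup.mem_centralizer_singleton_iff.2 hcg.symm.eq)
    exact orderOf_eq_one_iff.1 (Nat.eq_one_of_dvd_coprimes hcop (orderOf_dvd_of_pow_eq_one hgk) hd)
  refine no_four_fpf hQne hQodd (SameFix.sq_of_orderOf ht.1) (SameFix.sq_of_orderOf hv) hvc.symm
    (hQn t (Subgroup.subset_closure (by simp))) (hQn v (Subgroup.subset_closure (by simp)))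
    (hQfree t ht) (hQfree v (h1 v hv)) (hQfree _ (h1 _ ?_))
  refine SameFix.orderOf_of_sq ?_ fun e => hvt ?_
  · rw [hvc.mul_mul_mul_comm, SameFix.sq_of_orderOf ht.1, SameFix.sq_of_orderOf hv, one_mul]
  · rw [← inv_eq_iff_mul_eq_one, inv_eq_self ht.1] at e
    exact e.symm

end

end Cfsg.Agent.H6.AFour.Two
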