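import Cfsg.Agent.H6.AFour.Two.RegularOdd

/-!
# Two-point stabilisers of order two, square degree, even: the translations

The fixed-point sets of the taus are the lines of an affine plane; the swap elements preserve
parallelism and pairwise commute.
-/

set_option autoImplicit false

namespace Cfsg.Agent.H6.AFour.Two

open MulAction
open Cfsg.Agent.H70

universe u v

variable {Y : Type u} [Group Y] {Δ : Type v} [MulAction Y Δ]

/-- Equal, or without a common fixed point. -/
def Par (Δ : Type*) [MulAction Y Δ] (t t' : Y) : Prop :=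
  t = t' ∨ ∀ z : Δ, ¬ (t • z = z ∧ t' • z = z)

variable [Finite Y] [Finite Δ]

theorem IsSwap.fpf_of_even (hev : Even (Nat.card Δ)) {s : Y} (hs : IsSwap Δ s) (z : Δ) :
    s • z ≠ z := by
  classical
  have := Fintype.ofFinite Δ
  intro hz
  have h0 : (∑ w ∈ (Finset.univ : Finset Δ).filter (fun w => s • w ≠ w), (1 : ZMod 2)) = 0 :=
    Finset.sum_involution (fun w _ => s • w) (fun _ _ => by decide)
      (fun w hw _ => (Finset.mem_filter.1 hw).2)
      (fun w hw => by
        simp only [Finset.mem_filter, Finset.mem_univ, true_and] at hw ⊢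
        exact fun e => hw (MulAction.injective s e))
      (fun w _ => SameFix.smul_smul_self (SameFix.sq_of_orderOf hs.1) w)
  have hset : (Finset.univ : Finset Δ).filter (fun w => s • w ≠ w) = Finset.univ.erase z := by
    ext w
    simp only [Finset.mem_filter, Finset.mem_univ, true_and, Finset.mem_erase, and_true]
    exact ⟨fun hw e => hw (e ▸ hz), fun hw e => hw (hs.eq_of_fix e hz)⟩
  rw [hset] at h0
  simp only [Finset.sum_const, Finset.card_erase_of_mem (Finset.mem_univ z), Finset.card_univ,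
    nsmul_eq_mul, mul_one] at h0
  rw [ZMod.natCast_eq_zero_iff_even, ← Nat.card_eq_fintype_card] at h0
  have hpos : 0 < Nat.card Δ := Nat.card_pos_iff.2 ⟨⟨z⟩, inferInstance⟩
  rw [Nat.even_sub' hpos] at h0
  exact (Nat.not_even_iff_odd.2 (h0.2 odd_one)) hev

section

variable (h : Hyp Y Δ)

include h

omit [Finite Y] in
/-- The tau fixing a point and its image under an involution commutes with the involution. -/
theorem Hyp.commute_tau {s t : Y} (hs : s * s = 1) (ht : IsTau Δ t) {x : Δ} (hsx : s • x ≠ x)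
    (hx : t • x = x) (hx' : t • s • x = s • x) : Commute s t :=
  h.commute_of_map ht hsx.symm hx hx' hx' (by rw [SameFix.smul_smul_self hs, hx])

/-- Through a point there is at most one parallel to a line. -/
theorem Hyp.par_unique {t : Y} (ht : IsTau Δ t) (hf : Nat.card Δ = fixCard Δ t ^ 2) {u u' : Y}
    (hu : IsTau Δ u) (hu' : IsTau Δ u') (hpu : Par Δ t u) (hpu' : Par Δ t u') {x : Δ}
    (hx : u • x = x) (hx' : u' • x = x) : u = u' := by
  classical
  have := Fintype.ofFinite Δ
  have := Fintype.ofFinite Y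
  by_cases htx : t • x = x
  · have h1 := hpu.resolve_right fun e => e x ⟨htx, hx⟩
    have h2 := hpu'.resolve_right fun e => e x ⟨htx, hx'⟩
    rw [← h1, ← h2]
  have hd : ∀ z : Δ, ¬ (t • z = z ∧ u • z = z) := hpu.resolve_left fun e => htx (e ▸ hx)
  have hd' : ∀ z : Δ, ¬ (t • z = z ∧ u' • z = z) := hpu'.resolve_left fun e => htx (e ▸ hx')
  by_contra hne
  set e := fixCard Δ t with he
  have he2 : 2 ≤ e := ht.2
  have hfix : ∀ w : Y, (Finset.univ.filter fun z : Δ => w • z = z).card = fixCard Δ w := fun w => by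
    rw [fixCard, ← Nat.card_eq_finsetCard]
    exact Nat.card_congr (Equiv.subtypeEquivRight fun z => by simp [fixedBy])
  set A := Finset.univ.filter (fun w : Y => IsTau Δ w ∧ w • x = x) with hA
  have hA1 : A.card * (e - 1) = ((Finset.univ : Finset Δ).erase x).card * 1 := by
    refine card_mul_eq_of_rel A _ (fun w z => w • z = z) ?_ ?_
    · intro w hw
      simp only [hA, Finset.mem_filter, Finset.mem_univ, true_and] at hw
      rw [he, ← h.fixCard_eq ht hw.1, ← hfix w,
        ← Finset.card_erase_of_mem (show x ∈ Finset.univ.filter fun z : Δ => w • z = z by simp [hw.2])]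
      congr 1
      ext z
      simp [and_comm]
    · intro z hz
      rw [Finset.mem_erase] at hz
      obtain ⟨w, hw, hwz, hwx⟩ := h.exists_tau_fix hz.1
      refine Finset.card_eq_one.2 ⟨w, Finset.ext fun v => ?_⟩
      simp only [hA, Finset.mem_filter, Finset.mem_univ, true_and, Finset.mem_singleton]
      exact ⟨fun hv => h.tau_unique hv.1.1 hw hz.1 hv.2 hv.1.2 hwz hwx,
        fun hv => hv ▸ ⟨⟨hw, hwx⟩, hwz⟩⟩
  rw [Finset.card_erase_of_mem (Finset.mem_univ x), Finset.card_univ, ← Nat.card_eq_fintype_card,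
    hf, mul_one] at hA1
  have hA2 : A.card = e + 1 := by
    have hsq : e ^ 2 - 1 = (e + 1) * (e - 1) := by
      have := Nat.sq_sub_sq e 1
      simpa using this
    exact Nat.eq_of_mul_eq_mul_right (show 0 < e - 1 by omega) (hA1.trans hsq)
  have hmeet : ((A.erase u).erase u').card = e - 1 := by
    rw [Finset.card_erase_of_mem (by simp [hA, hu', hx', Ne.symm hne]),
      Finset.card_erase_of_mem (by simp [hA, hu, hx])]
    omega
  have hex : ∀ z ∈ Finset.univ.filter (fun z : Δ => t • z = z),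
      ∃ w ∈ (A.erase u).erase u', w • z = z := by
    intro z hz
    simp only [Finset.mem_filter, Finset.mem_univ, true_and] at hz
    have hzx : z ≠ x := fun e => htx (e ▸ hz)
    obtain ⟨w, hw, hwz, hwx⟩ := h.exists_tau_fix hzx
    refine ⟨w, ?_, hwz⟩
    simp only [Finset.mem_erase, hA, Finset.mem_filter, Finset.mem_univ, true_and]
    exact ⟨fun e => hd' z ⟨hz, e ▸ hwz⟩, fun e => hd z ⟨hz, e ▸ hwz⟩, hw, hwx⟩
  have hle : (Finset.univ.filter fun z : Δ => t • z = z).card ≤ ((A.erase u).erase u').card := by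
    choose w hwA hwz using hex
    refine Finset.card_le_card_of_injOn (fun z => if hz : z ∈ _ then w z hz else t) ?_ ?_
    · intro z hz
      simp only [Finset.mem_coe] at hz ⊢
      rw [dif_pos hz]
      exact hwA z hz
    · intro z hz z' hz' heq
      simp only [Finset.mem_coe] at hz hz'
      simp only [dif_pos hz, dif_pos hz'] at heq
      by_contra hzz
      have hw := hwA z hz
      simp only [Finset.mem_erase, hA, Finset.mem_filter, Finset.mem_univ, true_and] at hw
      have h1 := hwz z hz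
      have h2 := hwz z' hz'
      rw [← heq] at h2
      simp only [Finset.mem_filter, Finset.mem_univ, true_and] at hz hz'
      exact htx (h.tau_unique ht hw.2.2.1 hzz hz hz' h1 h2 ▸ hw.2.2.2)
  rw [hfix t, hmeet] at hle
  omega

/-- A line and an invariant translate of it are parallel. -/
theorem Hyp.par_conj (hev : Even (Nat.card Δ)) {s t : Y} (hs : IsSwap Δ s) (ht : IsTau Δ t) :
    Par Δ t (s * t * s⁻¹) := by
  by_cases heq : t = s * t * s⁻¹
  · exact Or.inl heq
  refine Or.inr fun z hz => heq ?_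
  have hsz := hs.fpf_of_even hev z
  refine h.tau_unique ht (ht.conj s) hsz.symm hz.1 ?_ hz.2 (smul_conj_eq hz.1)
  have h2 := hz.2
  rw [mul_smul, mul_smul, inv_eq_self hs.1] at h2
  have := congrArg (s • ·) h2
  simpa [SameFix.smul_smul_self (SameFix.sq_of_orderOf hs.1)] using this

/-- Two lines invariant under a swap element are parallel. -/
theorem Hyp.par_of_commute (hev : Even (Nat.card Δ)) {s t t' : Y} (hs : IsSwap Δ s)
    (ht : IsTau Δ t) (ht' : IsTau Δ t') (hc : Commute s t) (hc' : Commute s t') : Par Δ t t' := by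
  by_cases heq : t = t'
  · exact Or.inl heq
  exact Or.inr fun z hz => heq (h.tau_unique ht ht' (hs.fpf_of_even hev z).symm hz.1
    (smul_fix_of_commute hc hz.1) hz.2 (smul_fix_of_commute hc' hz.2))

/-- Translations in different directions at a point commute there. -/
theorem Hyp.swap_comm_at (hev : Even (Nat.card Δ)) {t₀ : Y} (ht₀ : IsTau Δ t₀)
    (hf : Nat.card Δ = fixCard Δ t₀ ^ 2) {s s' : Y} (hs : IsSwap Δ s) (hs' : IsSwap Δ s') {x : Δ}
    {t : Y} (ht : IsTau Δ t) (hx : t • x = x) (hsx : t • s • x = s • x)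
    (hdiff : t • s' • x ≠ s' • x) : s • s' • x = s' • s • x := by
  have hf' : ∀ u : Y, IsTau Δ u → Nat.card Δ = fixCard Δ u ^ 2 := fun u hu => by
    rw [h.fixCard_eq ht₀ hu]; exact hf
  have hss := SameFix.sq_of_orderOf hs.1
  have hss' := SameFix.sq_of_orderOf hs'.1
  have hct : Commute s t := h.commute_tau hss ht (hs.fpf_of_even hev x) hx hsx
  obtain ⟨t', ht', hx', hsx'⟩ := h.exists_tau_fix (hs'.fpf_of_even hev x).symm
  have hct' : Commute s' t' := h.commute_tau hss' ht' (hs'.fpf_of_even hev x) hx' hsx'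
  have hne : t ≠ t' := fun e => hdiff (e ▸ hsx')
  -- the parallel to `t` through `s' • x`
  obtain ⟨w, hw, hwx, hwsx⟩ := h.exists_tau_fix (hs.fpf_of_even hev (s' • x)).symm
  have hcw : Commute s w := h.commute_tau hss hw (hs.fpf_of_even hev _) hwx hwsx
  have hw2 : w = s' * t * s'⁻¹ := h.par_unique ht (hf' t ht) hw (ht.conj s')
    (h.par_of_commute hev hs ht hw hct hcw) (h.par_conj hev hs' ht) hwx (smul_conj_eq hx)
  -- the parallel to `t'` through `s • x`
  obtain ⟨v, hv, hvx, hvsx⟩ := h.exists_tau_fix (hs'.fpf_of_even hev (s • x)).symm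
  have hcv : Commute s' v := h.commute_tau hss' hv (hs'.fpf_of_even hev _) hvx hvsx
  have hv2 : v = s * t' * s⁻¹ := h.par_unique ht' (hf' t' ht') hv (ht'.conj s)
    (h.par_of_commute hev hs' ht' hv hct' hcv) (h.par_conj hev hs ht') hvx (smul_conj_eq hx')
  have hw3 : w • s' • s • x = s' • s • x := hw2 ▸ smul_conj_eq hsx
  have hv3 : v • s • s' • x = s • s' • x := hv2 ▸ smul_conj_eq hsx'
  by_contra hcon
  have hwv : w = v := h.tau_unique hw hv hcon hwsx hw3 hv3 hvsx
  have htw : t = w := (h.par_of_commute hev hs ht hw hct hcw).resolve_right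
    fun e => e (s • x) ⟨hsx, hwv ▸ hvx⟩
  have htv : t' = v := (h.par_of_commute hev hs' ht' hv hct' hcv).resolve_right
    fun e => e x ⟨hx', by rw [← hwv, ← htw]; exact hx⟩
  exact hne (htw.trans (hwv.trans htv.symm))

/-- Translations in different directions commute. -/
theorem Hyp.swap_comm_of_diff (hev : Even (Nat.card Δ)) {t₀ : Y} (ht₀ : IsTau Δ t₀)
    (hf : Nat.card Δ = fixCard Δ t₀ ^ 2) {s s' : Y} (hs : IsSwap Δ s) (hs' : IsSwap Δ s') {x : Δ}
    {t : Y} (ht : IsTau Δ t) (hx : t • x = x) (hsx : t • s • x = s • x)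
    (hdiff : t • s' • x ≠ s' • x) : Commute s s' := by
  haveI := h.faithful
  have hss := SameFix.sq_of_orderOf hs.1
  have hss' := SameFix.sq_of_orderOf hs'.1
  refine eq_of_smul_eq_smul fun z : Δ => ?_
  rw [mul_smul, mul_smul]
  obtain ⟨u, hu, huz, husz⟩ := h.exists_tau_fix (hs.fpf_of_even hev z).symm
  refine h.swap_comm_at hev ht₀ hf hs hs' hu huz husz fun hus'z => hdiff ?_
  have hcu : Commute s u := h.commute_tau hss hu (hs.fpf_of_even hev z) huz husz
  have hcu' : Commute s' u := h.commute_tau hss' hu (hs'.fpf_of_even hev z) huz hus'z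
  obtain ⟨t', ht', hx', hsx'⟩ := h.exists_tau_fix (hs'.fpf_of_even hev x).symm
  have hct : Commute s t := h.commute_tau hss ht (hs.fpf_of_even hev x) hx hsx
  have hct' : Commute s' t' := h.commute_tau hss' ht' (hs'.fpf_of_even hev x) hx' hsx'
  have heq : t = t' := h.par_unique hu (by rw [h.fixCard_eq ht₀ hu]; exact hf) ht ht'
    (h.par_of_commute hev hs hu ht hcu hct) (h.par_of_commute hev hs' hu ht' hcu' hct') hx hx'
  exact heq ▸ hsx'

/-- All swap elements commute. -/
theorem Hyp.swap_comm (hev : Even (Nat.card Δ)) {t₀ : Y} (ht₀ : IsTau Δ t₀)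
    (hf : Nat.card Δ = fixCard Δ t₀ ^ 2)
    (huniq : ∀ x y : Δ, x ≠ y → ∃! s : Y, IsSwap Δ s ∧ s • x = y) {s s' : Y}
    (hs : IsSwap Δ s) (hs' : IsSwap Δ s') : Commute s s' := by
  classical
  have := Fintype.ofFinite Δ
  obtain ⟨x, -, -⟩ := h.nontriv
  obtain ⟨t, ht, hx, hsx⟩ := h.exists_tau_fix (hs.fpf_of_even hev x).symm
  by_cases hdiff : t • s' • x = s' • x
  swap
  · exact h.swap_comm_of_diff hev ht₀ hf hs hs' ht hx hsx hdiff
  obtain ⟨z, hz⟩ := h.exists_moved ht.ne_one
  have hzx : x ≠ z := fun e => hz (e ▸ hx)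
  obtain ⟨r, ⟨hr, hrx⟩, -⟩ := huniq x z hzx
  have hrt : t • r • x ≠ r • x := hrx ▸ hz
  have hsr : Commute s r := h.swap_comm_of_diff hev ht₀ hf hs hr ht hx hsx hrt
  have hs'r : Commute s' r := h.swap_comm_of_diff hev ht₀ hf hs' hr ht hx hdiff hrt
  have hne : r ≠ s' := fun e => hrt (e ▸ hdiff)
  have hq : IsSwap Δ (r * s') := by
    refine ⟨SameFix.orderOf_of_sq ?_ fun e => hne ?_, ?_⟩
    · rw [hs'r.mul_mul_mul_comm, SameFix.sq_of_orderOf hr.1, SameFix.sq_of_orderOf hs'.1, one_mul]
    · rw [← inv_eq_iff_mul_eq_one, inv_eq_self hr.1] at e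
      exact e
    · rw [fixCard, Nat.card_coe_set_eq]
      refine le_of_eq_of_le ((Set.ncard_eq_zero (Set.toFinite _)).2
        (Set.eq_empty_of_forall_notMem fun w hw => ?_)) zero_le_one
      have hw' : r • s' • w = w := by rw [← mul_smul]; exact hw
      have he : s' • w = r • w := by
        conv_rhs => rw [← hw', SameFix.smul_smul_self (SameFix.sq_of_orderOf hr.1)]
      exact hne ((huniq w (r • w) (hr.fpf_of_even hev w).symm).unique ⟨hr, rfl⟩ ⟨hs', he⟩)
  have hqd : t • (r * s') • x ≠ (r * s') • x := by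
    rw [mul_smul]
    intro e
    have hct : Commute r t :=
      h.commute_tau (SameFix.sq_of_orderOf hr.1) ht (hr.fpf_of_even hev (s' • x)) hdiff e
    exact hrt (smul_fix_of_commute hct hx)
  have hsq : Commute s (r * s') := h.swap_comm_of_diff hev ht₀ hf hs hq ht hx hsx hqd
  have := hsr.mul_right hsq
  rwa [← mul_assoc, SameFix.sq_of_orderOf hr.1, one_mul] at this

/-- In even degree, with one swap element for each pair, there is a regular normal subgroup. -/
theorem Hyp.exists_regular_even (hev : Even (Nat.card Δ)) {t₀ : Y} (ht₀ : IsTau Δ t₀)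
    (hf : Nat.card Δ = fixCard Δ t₀ ^ 2)
    (huniq : ∀ x y : Δ, x ≠ y → ∃! s : Y, IsSwap Δ s ∧ s • x = y) :
    ∃ (p : ℕ) (N : Subgroup Y), p.Prime ∧ N.Normal ∧ IsPGroup p ↥N ∧ IsMulCommutative ↥N ∧
      Nat.card ↥N = Nat.card Δ ∧ ∀ x y : Δ, ∃ n ∈ N, n • x = y := by
  classical
  have := Fintype.ofFinite Δ
  have hcomm : ∀ a b : Y, IsSwap Δ a → IsSwap Δ b → Commute a b :=
    fun a b ha hb => h.swap_comm hev ht₀ hf huniq ha hb
  let N : Subgroup Y :=
    { carrier := {y | y = 1 ∨ IsSwap Δ y}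
      one_mem' := Or.inl rfl
      mul_mem' := by
        rintro a b (rfl | ha) hb
        · rwa [one_mul]
        rcases hb with rfl | hb
        · exact Or.inr (by rwa [mul_one])
        by_cases hab : a = b
        · exact Or.inl (by rw [← hab, SameFix.sq_of_orderOf ha.1])
        refine Or.inr ⟨SameFix.orderOf_of_sq ?_ fun e => hab ?_, ?_⟩
        · rw [(hcomm b a hb ha).mul_mul_mul_comm, SameFix.sq_of_orderOf ha.1,
            SameFix.sq_of_orderOf hb.1, one_mul]
        · rw [← inv_eq_iff_mul_eq_one, inv_eq_self ha.1] at e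
          exact e
        · rw [fixCard, Nat.card_coe_set_eq]
          refine le_of_eq_of_le ((Set.ncard_eq_zero (Set.toFinite _)).2
            (Set.eq_empty_of_forall_notMem fun w hw => ?_)) zero_le_one
          have hw' : a • b • w = w := by rw [← mul_smul]; exact hw
          have he : b • w = a • w := by
            conv_rhs => rw [← hw', SameFix.smul_smul_self (SameFix.sq_of_orderOf ha.1)]
          exact hab ((huniq w (a • w) (ha.fpf_of_even hev w).symm).unique ⟨ha, rfl⟩ ⟨hb, he⟩)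
      inv_mem' := by
        rintro a (rfl | ha)
        · exact Or.inl inv_one
        · exact Or.inr (by rwa [inv_eq_self ha.1]) }
  have hmem : ∀ y : Y, y ∈ N ↔ y = 1 ∨ IsSwap Δ y := fun y => Iff.rfl
  have htr : ∀ a b : Δ, ∃ n ∈ N, n • a = b := by
    intro a b
    by_cases hab : a = b
    · exact ⟨1, N.one_mem, by rw [one_smul, hab]⟩
    · obtain ⟨n, ⟨hn, hna⟩, -⟩ := huniq a b hab
      exact ⟨n, Or.inr hn, hna⟩
  obtain ⟨x, -, -⟩ := h.nontriv
  refine ⟨2, N, Nat.prime_two, ⟨fun n hn g => ?_⟩, ?_, ?_, ?_, htr⟩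
  · rcases hn with rfl | hn
    · exact Or.inl (by group)
    · exact Or.inr (hn.conj g)
  · rintro ⟨n, hn⟩
    refine ⟨1, Subtype.ext ?_⟩
    rcases hn with rfl | hn
    · simp
    · simpa [pow_two] using SameFix.sq_of_orderOf hn.1
  · refine Perm.isMulCommutative_iff_comm.2 fun a ha b hb => ?_
    rcases ha with rfl | ha
    · simp
    rcases hb with rfl | hb
    · simp
    exact hcomm a b ha hb
  · refine Nat.card_congr (Equiv.ofBijective (fun m : ↥N => (m : Y) • x) ⟨?_, ?_⟩)
    · intro m m' e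
      have hm : ((m'⁻¹ * m : ↥N) : Y) • x = x := by
        simp only [Subgroup.coe_mul, Subgroup.coe_inv, mul_smul, inv_smul_eq_iff]
        exact e
      rcases (hmem _).1 (m'⁻¹ * m).2 with h1 | h1
      · exact (inv_mul_eq_one.1 (Subtype.ext h1)).symm
      · exact absurd hm (h1.fpf_of_even hev x)
    · intro w
      obtain ⟨n, hn, e⟩ := htr x w
      exact ⟨⟨n, hn⟩, e⟩

theorem Hyp.exists_regular (hex : ∃ y : Y, IsSwap Δ y) :
    ∃ (p : ℕ) (N : Subgroup Y), p.Prime ∧ N.Normal ∧ IsPGroup p ↥N ∧ IsMulCommutative ↥N ∧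
      Nat.card ↥N = Nat.card Δ ∧ ∀ x y : Δ, ∃ n ∈ N, n • x = y := by
  obtain ⟨t, ht⟩ := h.exists_tau
  obtain ⟨y, hy⟩ := hex
  rcases h.dichotomy ht with ⟨hall, -⟩ | ⟨hf, huniq⟩
  · exact absurd hy (hall y hy.1).not_isSwap
  rcases Nat.even_or_odd (Nat.card Δ) with hev | hodd
  · exact h.exists_regular_even hev ht hf huniq
  · exact h.exists_regular_odd hodd huniq

theorem Hyp.mem_regular_of_even (hev : Even (Nat.card Δ)) {N : Subgroup Y} (hN : N.Normal)
    (hc : Nat.card ↥N = Nat.card Δ) (htr : ∀ x y : Δ, ∃ n ∈ N, n • x = y) {s : Y} (hs : IsSwap Δ s) :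
    s ∈ N := by
  classical
  haveI := Fintype.ofFinite Δ
  haveI : Nonempty Δ := by obtain ⟨a, -, -⟩ := h.nontriv; exact ⟨a⟩
  haveI : Fact (Nat.Prime 2) := ⟨Nat.prime_two⟩
  obtain ⟨t, ht⟩ := h.exists_tau
  rcases h.dichotomy ht with ⟨hall, -⟩ | ⟨-, huniq⟩
  · exact absurd hs (hall s hs.1).not_isSwap
  have hbij : ∀ x : Δ, Function.Bijective fun m : ↥N => (m : Y) • x := fun x => by
    refine (Nat.bijective_iff_surjective_and_card _).2 ⟨fun w => ?_, hc⟩
    obtain ⟨n, hn, e⟩ := htr x w
    exact ⟨⟨n, hn⟩, e⟩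
  have hfree : ∀ x : Δ, stabilizer ↥N x = ⊥ := fun x => by
    rw [eq_bot_iff]
    intro n hn
    exact (hbij x).1 (hn.trans (one_smul ↥N x).symm)
  have hexp : ∀ n ∈ N, n ^ 2 = 1 := by
    obtain ⟨-, p, hp, hexp⟩ := Perm.regular_normal_elementary h.two N hfree
    obtain ⟨n, hn⟩ := exists_prime_orderOf_dvd_card' (G := ↥N) 2 (hc ▸ hev.two_dvd)
    have hdvd : 2 ∣ p := by
      rw [← hn, orderOf_dvd_iff_pow_eq_one]
      exact Subtype.ext (by simpa using hexp n n.2)
    rw [show p = 2 from ((hp.eq_one_or_self_of_dvd 2 hdvd).resolve_left (by norm_num)).symm] at hexp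
    exact hexp
  obtain ⟨x, -, -⟩ := h.nontriv
  obtain ⟨⟨n, hn⟩, hnx⟩ := (hbij x).2 (s • x)
  have hsx := hs.fpf_of_even hev x
  have hn1 : n ≠ 1 := fun e => hsx (by simpa [e] using hnx.symm)
  have hnsw : IsSwap Δ n := by
    refine ⟨SameFix.orderOf_of_sq (by simpa [pow_two] using hexp n hn) hn1, ?_⟩
    rw [fixCard, Nat.card_coe_set_eq]
    refine le_of_eq_of_le ((Set.ncard_eq_zero (Set.toFinite _)).2
      (Set.eq_empty_of_forall_notMem fun w hw => hn1 ?_)) zero_le_one
    exact congrArg Subtype.val ((hbij w).1 (a₁ := ⟨n, hn⟩) (a₂ := 1) (by simpa using hw))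
  exact (huniq x (s • x) hsx.symm).unique ⟨hs, rfl⟩ ⟨hnsw, hnx⟩ ▸ hn

end

end Cfsg.Agent.H6.AFour.Two
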