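import Cfsg.Agent.H6.AFour.Two.Count
import Cfsg.Agent.Perm.RegularNormal
import Cfsg.Agent.S0205
import Cfsg.Agent.S0215

/-!
# Two-point stabilisers of order two, square degree, odd: a regular normal subgroup by Z*
-/

set_option autoImplicit false

namespace Cfsg.Agent.H6.AFour.Two

open MulAction
open Cfsg.Agent.H70

universe u v

variable {Y : Type u} [Group Y] {Δ : Type v} [MulAction Y Δ]

/-- An involution of an odd finite set fixes a point. -/
theorem exists_fix_of_odd [Finite Δ] (hodd : Odd (Nat.card Δ)) {s : Y} (hs : s * s = 1) :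
    ∃ z : Δ, s • z = z := by
  classical
  have := Fintype.ofFinite Δ
  by_contra hcon
  push Not at hcon
  have h0 : (∑ _z : Δ, (1 : ZMod 2)) = 0 :=
    Finset.sum_involution (fun z _ => s • z) (fun _ _ => by decide) (fun z _ _ => hcon z)
      (fun z _ => Finset.mem_univ _) (fun z _ => SameFix.smul_smul_self hs z)
  simp only [Finset.sum_const, Finset.card_univ, nsmul_eq_mul, mul_one] at h0
  rw [ZMod.natCast_eq_zero_iff_even, ← Nat.card_eq_fintype_card] at h0
  exact (Nat.not_even_iff_odd.2 hodd) h0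

variable [Finite Y] [Finite Δ]

theorem IsSwap.fixCard_eq_one (hodd : Odd (Nat.card Δ)) {s : Y} (hs : IsSwap Δ s) :
    fixCard Δ s = 1 := by
  obtain ⟨z, hz⟩ := exists_fix_of_odd hodd (SameFix.sq_of_orderOf hs.1)
  have : 0 < fixCard Δ s := by
    rw [fixCard, Nat.card_coe_set_eq]
    exact (Set.ncard_pos (Set.toFinite _)).2 ⟨z, hz⟩
  have := hs.2
  omega

/-- Each point is fixed by exactly one swap element. -/
theorem Hyp.swap_fix_unique (h : Hyp Y Δ) (hodd : Odd (Nat.card Δ))
    (huniq : ∀ x y : Δ, x ≠ y → ∃! s : Y, IsSwap Δ s ∧ s • x = y) (x : Δ) :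
    ∃! j : Y, IsSwap Δ j ∧ j • x = x := by
  classical
  have := Fintype.ofFinite Δ
  have := Fintype.ofFinite Y
  set W := Finset.univ.filter (IsSwap Δ (Y := Y)) with hW
  have hfix : ∀ u : Y, (Finset.univ.filter fun z : Δ => u • z = z).card = fixCard Δ u := fun u => by
    rw [fixCard, ← Nat.card_eq_finsetCard]
    exact Nat.card_congr (Equiv.subtypeEquivRight fun z => by simp [fixedBy])
  have hn : 2 ≤ Nat.card Δ := by
    obtain ⟨a, b, hab⟩ := h.nontriv
    rw [Nat.card_eq_fintype_card]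
    exact Fintype.one_lt_card_iff.2 ⟨a, b, hab⟩
  have hmv : W.card * (Nat.card Δ - 1) = Nat.card Δ * (Nat.card Δ - 1) * 1 := by
    have := card_mul_eq_of_rel W (Finset.univ : Finset Δ).offDiag (fun u p => u • p.1 = p.2)
      (c := Nat.card Δ - 1) (d := 1) ?_ ?_
    · rw [this, Finset.offDiag_card, Finset.card_univ, ← Nat.card_eq_fintype_card, Nat.mul_sub_one]
    · intro u hu
      have hu' : IsSwap Δ u := (Finset.mem_filter.1 hu).2
      have hsplit : (Finset.univ.filter fun z : Δ => ¬ u • z = z).card + fixCard Δ u = Nat.card Δ := by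
        rw [← hfix u, add_comm, Finset.card_filter_add_card_filter_not, Finset.card_univ,
          Nat.card_eq_fintype_card]
      rw [hu'.fixCard_eq_one hodd] at hsplit
      rw [show Nat.card Δ - 1 = (Finset.univ.filter fun z : Δ => ¬ u • z = z).card by omega]
      refine Finset.card_bij' (fun p _ => p.1) (fun z _ => (z, u • z)) ?_ ?_ ?_ ?_
      · rintro ⟨p, q⟩ hp
        simp only [Finset.mem_filter, Finset.mem_offDiag, Finset.mem_univ, true_and] at hp ⊢
        rw [hp.2]; exact Ne.symm hp.1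
      · intro z hz
        simp only [Finset.mem_filter, Finset.mem_offDiag, Finset.mem_univ, true_and] at hz ⊢
        exact ⟨Ne.symm hz, trivial⟩
      · rintro ⟨p, q⟩ hp
        simp only [Finset.mem_filter] at hp
        simp [hp.2]
      · intro z _; rfl
    · rintro ⟨c, d⟩ hcd
      simp only [Finset.mem_offDiag, Finset.mem_univ, true_and] at hcd
      obtain ⟨s, hs, hs'⟩ := huniq c d hcd
      refine Finset.card_eq_one.2 ⟨s, Finset.ext fun w => ?_⟩
      simp only [hW, Finset.mem_filter, Finset.mem_univ, true_and, Finset.mem_singleton]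
      exact ⟨fun hw => hs' w hw, fun hw => hw ▸ hs⟩
  have hWcard : W.card = Nat.card Δ := by
    rw [mul_one] at hmv
    exact Nat.eq_of_mul_eq_mul_right (by omega) hmv
  set d := (W.filter fun u => u • x = x).card with hd
  have hall : W.card * 1 = (Finset.univ : Finset Δ).card * d := by
    refine card_mul_eq_of_rel W Finset.univ (fun u z => u • z = z) ?_ ?_
    · intro u hu
      rw [hfix u, (Finset.mem_filter.1 hu).2.fixCard_eq_one hodd]
    · intro z _
      obtain ⟨a, b, hab⟩ := h.nontriv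
      have hg : ∃ g : Y, g • x = z := by
        by_cases hzx : z = x
        · exact ⟨1, by rw [one_smul, hzx]⟩
        · obtain ⟨w, hw⟩ : ∃ w : Δ, w ≠ x := ⟨z, hzx⟩
          obtain ⟨g, hg, -⟩ := h.move (Ne.symm hw) (hzx : z ≠ x)
          exact ⟨g, hg⟩
      obtain ⟨g, rfl⟩ := hg
      refine Finset.card_bij' (fun u _ => g⁻¹ * u * g) (fun u _ => g * u * g⁻¹) ?_ ?_ ?_ ?_
      · intro u hu
        simp only [hW, Finset.mem_filter, Finset.mem_univ, true_and] at hu ⊢
        exact ⟨by simpa using hu.1.conj g⁻¹, by rw [mul_smul, mul_smul, hu.2, inv_smul_smul]⟩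
      · intro u hu
        simp only [hW, Finset.mem_filter, Finset.mem_univ, true_and] at hu ⊢
        exact ⟨hu.1.conj g, smul_conj_eq hu.2⟩
      · intro u _; group
      · intro u _; group
  rw [mul_one, hWcard, Finset.card_univ, ← Nat.card_eq_fintype_card] at hall
  have hd1 : d = 1 := (Nat.eq_of_mul_eq_mul_left (show 0 < Nat.card Δ by omega)
    (by rw [mul_one]; exact hall)).symm
  obtain ⟨j, hj⟩ := Finset.card_eq_one.1 (hd ▸ hd1)
  refine ⟨j, ?_, fun w hw => ?_⟩
  · have := hj.symm ▸ Finset.mem_singleton_self j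
    simpa [hW] using this
  · exact Finset.mem_singleton.1 (hj ▸ by simp [hW, hw.1, hw.2])

/-- In odd degree, with one swap element for each pair, there is a regular normal subgroup. -/
theorem Hyp.exists_regular_odd (h : Hyp Y Δ) (hodd : Odd (Nat.card Δ))
    (huniq : ∀ x y : Δ, x ≠ y → ∃! s : Y, IsSwap Δ s ∧ s • x = y) :
    ∃ (p : ℕ) (N : Subgroup Y), p.Prime ∧ N.Normal ∧ IsPGroup p ↥N ∧ IsMulCommutative ↥N ∧
      Nat.card ↥N = Nat.card Δ ∧ ∀ x y : Δ, ∃ n ∈ N, n • x = y := by
  classical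
  haveI : Fact (Nat.Prime 2) := ⟨Nat.prime_two⟩
  haveI := h.faithful
  obtain ⟨x, y, hxy⟩ := h.nontriv
  obtain ⟨j, ⟨hj, hjx⟩, hjuniq⟩ := h.swap_fix_unique hodd huniq x
  have hz : IsPGroup 2 ↥(Subgroup.zpowers j) := IsPGroup.of_card (n := 1) (by
    rw [Nat.card_zpowers, hj.1, pow_one])
  obtain ⟨P, hP⟩ := hz.exists_le_sylow
  have hjP : j ∈ P := hP (Subgroup.mem_zpowers j)
  obtain ⟨z, hzfix⟩ := P.2.nonempty_fixed_point_of_prime_not_dvd_card Δ
    (fun hdvd => (Nat.not_even_iff_odd.2 hodd) (even_iff_two_dvd.2 hdvd))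
  have hzx : z = x := hj.eq_of_fix (hzfix ⟨j, hjP⟩) hjx
  subst hzx
  have hiso : ∀ g : Y, g * j * g⁻¹ ∈ P → g * j * g⁻¹ = j := fun g hg =>
    hjuniq _ ⟨hj.conj g, hzfix ⟨_, hg⟩⟩
  obtain ⟨N, hNn, hNodd, hN⟩ := Cfsg.Agent.S0215.result P j hj.1 hjP hiso
  have hNne : N ≠ ⊥ := by
    intro hbot
    obtain ⟨k, hk, -⟩ := h.move (a := z) (b := y) (c := y) (d := z) hxy hxy.symm
    have hcomm' : Commute j k := by
      have := hN k
      rw [hbot, Subgroup.mem_bot, mul_inv_eq_iff_eq_mul, one_mul] at this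
      exact mul_inv_eq_iff_eq_mul.1 this
    exact hxy (hj.eq_of_fix hjx (by rw [← hk, smul_smul, hcomm'.eq, mul_smul, hjx]))
  obtain ⟨M, hMn, hMN, hMne, hMmin⟩ := Perm.exists_minimal_normal_le hNne
  haveI : Group.IsSolvable ↥N := Cfsg.Agent.S0205.result hNodd
  haveI : Group.IsSolvable ↥M := Group.isSolvable_of_isSolvable_injective
    (f := Subgroup.inclusion hMN) (Subgroup.inclusion_injective hMN)
  have hab : IsMulCommutative ↥M := by
    refine Perm.isMulCommutative_iff_comm.2 ?_
    rcases hMmin ⁅M, M⁆ inferInstance (Subgroup.commutator_le_self M) with e | e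
    · intro a ha b hb
      have := Subgroup.commutator_mem_commutator ha hb
      rw [e, Subgroup.mem_bot] at this
      exact commutatorElement_eq_one_iff_mul_comm.mp this
    · exfalso
      haveI : Nontrivial ↥M := (Subgroup.nontrivial_iff_ne_bot M).mpr hMne
      refine (Group.IsSolvable.commutator_lt_top_of_nontrivial ↥M).ne ?_
      apply Subgroup.map_injective M.subtype_injective
      rw [Subgroup.map_subtype_commutator, e, ← MonoidHom.range_eq_map, Subgroup.range_subtype]
  obtain ⟨p, hp, hexp⟩ := Perm.minimal_abelian_exp hMne hMmin hab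
  have htr : ∀ a b : Δ, ∃ n ∈ M, n • a = b :=
    Perm.exists_mem_smul_eq (Perm.transitive_of_normal_of_two h.two hMne)
  have hfree : ∀ m ∈ M, m • z = z → m = 1 := by
    intro m hm hmz
    refine eq_one_of_forall fun w : Δ => ?_
    obtain ⟨n, hn, rfl⟩ := htr z w
    rw [smul_smul, Perm.isMulCommutative_iff_comm.1 hab m hm n hn, mul_smul, hmz]
  refine ⟨p, M, hp, hMn, fun m => ⟨1, Subtype.ext (by simpa using hexp m m.2)⟩, hab, ?_, htr⟩
  refine Nat.card_congr (Equiv.ofBijective (fun m : ↥M => (m : Y) • z) ⟨?_, ?_⟩)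
  · intro m m' e
    refine Subtype.ext ((inv_mul_eq_one.1 (hfree _ (mul_mem (inv_mem m'.2) m.2) ?_)).symm)
    rw [mul_smul, inv_smul_eq_iff]
    exact e
  · intro w
    obtain ⟨n, hn, e⟩ := htr z w
    exact ⟨⟨n, hn⟩, e⟩

end Cfsg.Agent.H6.AFour.Two
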